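import Cfsg.Agent.Lib.SylowAbel.Good
import Mathlib.GroupTheory.NoncommPiCoprod
import Mathlib.GroupTheory.SpecificGroups.Quaternion
import Mathlib.Tactic.LinearCombination

/-!
Products and quaternion groups.
-/

set_option autoImplicit false

namespace CfsgLib.SylowAbel

theorem good_pi {ι : Type*} [Finite ι] {G : Type*} [Group G] {p : ℕ} (h : ∀ x : G, Good p x)
    (f : ι → G) : Good p f := by
  classical
  rw [← mem_goodSubgroup]
  refine Subgroup.pi_mem_of_mulSingle_mem f fun i => ?_
  exact mem_goodSubgroup.2 (good_map (MonoidHom.mulSingle (fun _ : ι => G) i) (h (f i)))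

theorem good_quaternion {k : ℕ} (hk : 1 ≤ k) (x : QuaternionGroup (2 ^ k)) : Good 2 x := by
  haveI : NeZero (2 ^ k) := ⟨pow_ne_zero _ two_ne_zero⟩
  have ha : (QuaternionGroup.a (2 : ZMod (2 * 2 ^ k))) ∈ commutator (QuaternionGroup (2 ^ k)) := by
    have h : (QuaternionGroup.a 2 : QuaternionGroup (2 ^ k)) =
        QuaternionGroup.a 1 * QuaternionGroup.xa 0 * (QuaternionGroup.a 1)⁻¹ * (QuaternionGroup.xa 0)⁻¹ := by
      show (QuaternionGroup.a 2 : QuaternionGroup (2 ^ k)) =
        QuaternionGroup.a 1 * QuaternionGroup.xa 0 * QuaternionGroup.a (-1) *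
          QuaternionGroup.xa (((2 ^ k : ℕ) : ZMod (2 * 2 ^ k)) + 0)
      simp only [QuaternionGroup.a_mul_xa, QuaternionGroup.xa_mul_a, QuaternionGroup.xa_mul_xa]
      congr 1
      have hz : (2 : ZMod (2 * 2 ^ k)) * ((2 ^ k : ℕ) : ZMod (2 * 2 ^ k)) = 0 := by
        have := ZMod.natCast_self (2 * 2 ^ k)
        rwa [Nat.cast_mul, Nat.cast_ofNat] at this
      linear_combination -hz
    rw [h, commutator_def]
    exact Subgroup.commutator_mem_commutator (Subgroup.mem_top _) (Subgroup.mem_top _)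
  have heven : ∀ j : ℕ, QuaternionGroup.a ((2 * j : ℕ) : ZMod (2 * 2 ^ k)) ∈
      commutator (QuaternionGroup (2 ^ k)) := by
    intro j
    induction j with
    | zero => rw [Nat.mul_zero, Nat.cast_zero]; exact Subgroup.one_mem _
    | succ j ih =>
      have := Subgroup.mul_mem _ ih ha
      rw [QuaternionGroup.a_mul_a] at this
      convert this using 2
      push_cast
      ring
  unfold Good
  rw [pow_two]
  cases x with
  | a i =>
    rw [QuaternionGroup.a_mul_a, ← ZMod.natCast_zmod_val i, ← Nat.cast_add, ← two_mul]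
    exact heven _
  | xa i =>
    rw [QuaternionGroup.xa_mul_xa, add_sub_cancel_right]
    obtain ⟨j, rfl⟩ : ∃ j, k = j + 1 := ⟨k - 1, by omega⟩
    have := heven (2 ^ j)
    rwa [show (2 * 2 ^ j : ℕ) = 2 ^ (j + 1) by rw [pow_succ, mul_comm]] at this

end CfsgLib.SylowAbel
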