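import Cfsg.Agent.Lib.SylowAbel.Sym
import Cfsg.Agent.Lib.SylowAbel.Pi
import Cfsg.Agent.Lib.SpSylowTwo.Main

/-!
Block monomial subgroups of `GL_{2m}(q)`; the `2`-part of the order for `q ≡ 3 (mod 4)`.
-/

set_option autoImplicit false

namespace CfsgLib.SylowAbel

open Matrix

variable {F : Type*} [Field F] {m : ℕ}

/-- Permutation matrices on the blocks. -/
noncomputable def permGL (F : Type*) [Field F] (m : ℕ) :
    Equiv.Perm (Fin m) →* GL (Fin 2 × Fin m) F :=
  MonoidHom.toHomUnits
    { toFun := fun σ => Equiv.Perm.permMatrix F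
        (Equiv.prodCongr (Equiv.refl (Fin 2)) σ⁻¹ : Equiv.Perm (Fin 2 × Fin m))
      map_one' := by
        show Equiv.Perm.permMatrix F _ = _
        rw [inv_one]
        exact Matrix.permMatrix_one
      map_mul' := fun σ τ => by
        rw [← Matrix.permMatrix_mul]
        rfl }

theorem permGL_val (σ : Equiv.Perm (Fin m)) :
    ((permGL F m σ : GL (Fin 2 × Fin m) F) : Matrix (Fin 2 × Fin m) (Fin 2 × Fin m) F) =
      Equiv.Perm.permMatrix F (Equiv.prodCongr (Equiv.refl (Fin 2)) σ⁻¹ : Equiv.Perm (Fin 2 × Fin m)) :=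
  rfl

/-- Block diagonal matrices. -/
noncomputable def blockGL (F : Type*) [Field F] (m : ℕ) :
    (Fin m → GL (Fin 2) F) →* GL (Fin 2 × Fin m) F :=
  MonoidHom.toHomUnits
    ((Matrix.blockDiagonalRingHom (Fin 2) (Fin m) F).toMonoidHom.comp
      ((Units.coeHom (Matrix (Fin 2) (Fin 2) F)).compLeft (Fin m)))

theorem blockGL_val (g : Fin m → GL (Fin 2) F) :
    ((blockGL F m g : GL (Fin 2 × Fin m) F) : Matrix (Fin 2 × Fin m) (Fin 2 × Fin m) F) =
      Matrix.blockDiagonal fun i => (g i : Matrix (Fin 2) (Fin 2) F) := rfl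

theorem permGL_conj (σ : Equiv.Perm (Fin m)) (g : Fin m → GL (Fin 2) F) :
    blockGL F m (g ∘ ⇑(σ⁻¹)) = permGL F m σ * blockGL F m g * (permGL F m σ)⁻¹ := by
  rw [eq_mul_inv_iff_mul_eq]
  apply Units.ext
  rw [Units.val_mul, Units.val_mul, blockGL_val, blockGL_val, permGL_val,
    PEquiv.mul_toMatrix_toPEquiv, PEquiv.toMatrix_toPEquiv_mul]
  ext ⟨a, i⟩ ⟨b, j⟩
  simp only [Matrix.submatrix_apply, id, Equiv.prodCongr_apply, Equiv.prodCongr_symm,
    Equiv.refl_symm, Prod.map, Equiv.refl_apply, Matrix.blockDiagonal_apply, Function.comp_apply]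
  have hiff : i = (σ⁻¹).symm j ↔ σ⁻¹ i = j := by rw [Equiv.eq_symm_apply]
  by_cases h : σ⁻¹ i = j
  · rw [if_pos (hiff.2 h), if_pos h, hiff.2 h, ← h]
  · rw [if_neg (mt hiff.1 h), if_neg h]

theorem blockGL_injective (m : ℕ) : Function.Injective (blockGL F m) := fun f g h =>
  funext fun i => Units.ext (congrFun (Matrix.blockDiagonal_injective (congrArg Units.val h)) i)

theorem det_blockGL (g : Fin m → GL (Fin 2) F) :
    GeneralLinearGroup.det (blockGL F m g) = ∏ i, GeneralLinearGroup.det (g i) := by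
  apply Units.ext
  rw [Units.coe_prod]
  exact Matrix.det_blockDiagonal _

theorem det_permGL (σ : Equiv.Perm (Fin m)) : GeneralLinearGroup.det (permGL F m σ) = 1 := by
  apply Units.ext
  show Matrix.det (Equiv.Perm.permMatrix F _) = 1
  rw [Matrix.det_permutation]
  rw [show (Equiv.prodCongr (Equiv.refl (Fin 2)) σ⁻¹ : Equiv.Perm (Fin 2 × Fin m)) =
    Equiv.prodCongrRight fun _ : Fin 2 => σ⁻¹ from rfl, Equiv.Perm.sign_prodCongrRight,
    Finset.prod_const, Finset.card_univ, Fintype.card_fin, Int.units_sq]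
  simp

section Wreath

variable (D : Subgroup (GL (Fin 2) F)) (R : Subgroup (Equiv.Perm (Fin m)))

/-- `Dᵐ ⋊ R`. -/
abbrev WGroup :=
  (Fin m → D) ⋊[(CfsgLib.SpSylowTwo.permAut (ι := Fin m) D).comp R.subtype] R

/-- The embedding in `GL_{2m}`. -/
noncomputable def wreathGL : WGroup D R →* GL (Fin 2 × Fin m) F :=
  SemidirectProduct.lift ((blockGL F m).comp (D.subtype.compLeft (Fin m)))
    ((permGL F m).comp R.subtype) fun σ => by
      ext1 g
      exact permGL_conj (σ : Equiv.Perm (Fin m)) fun i => (g i : GL (Fin 2) F)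

theorem wreathGL_injective : Function.Injective (wreathGL D R) := by
  rw [injective_iff_map_eq_one]
  rintro ⟨f, σ⟩ hx
  change blockGL F m (fun i => (f i : GL (Fin 2) F)) * permGL F m (σ : Equiv.Perm (Fin m)) = 1 at hx
  have hσ : σ = 1 := by
    refine Subtype.ext (inv_eq_one.1 (Equiv.ext fun i => ?_))
    by_contra hne
    have h := congrArg Units.val (eq_inv_of_mul_eq_one_right hx)
    rw [permGL_val, ← map_inv, blockGL_val] at h
    have h1 := congrFun (congrFun h (0, i)) (0, (σ : Equiv.Perm (Fin m))⁻¹ i)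
    have hL : Equiv.Perm.permMatrix F (Equiv.prodCongr (Equiv.refl (Fin 2))
        (σ : Equiv.Perm (Fin m))⁻¹ : Equiv.Perm (Fin 2 × Fin m)) (0, i)
        (0, (σ : Equiv.Perm (Fin m))⁻¹ i) = 1 := by
      show (if _ then _ else _) = _
      exact if_pos rfl
    have hR : ∀ M : Fin m → Matrix (Fin 2) (Fin 2) F,
        Matrix.blockDiagonal M (0, i) (0, (σ : Equiv.Perm (Fin m))⁻¹ i) = 0 := fun M => by
      rw [Matrix.blockDiagonal_apply, if_neg fun h => hne h.symm]
    exact one_ne_zero (hL.symm.trans (h1.trans (hR _)))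
  subst hσ
  rw [OneMemClass.coe_one, map_one, mul_one] at hx
  have h0 := blockGL_injective m (hx.trans (map_one _).symm)
  have hf : f = 1 := funext fun i => Subtype.ext (congrFun h0 i)
  subst hf; rfl

/-- The determinant on the wreath product. -/
noncomputable def wreathDet : WGroup D R →* Fˣ := GeneralLinearGroup.det.comp (wreathGL D R)

theorem wreathDet_inl (f : Fin m → D) :
    wreathDet D R (SemidirectProduct.inl f) = ∏ i, GeneralLinearGroup.det (f i : GL (Fin 2) F) := by
  rw [wreathDet, MonoidHom.comp_apply, wreathGL, SemidirectProduct.lift_inl]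
  exact det_blockGL _

theorem wreathDet_inr (σ : R) : wreathDet D R (SemidirectProduct.inr σ) = 1 := by
  rw [wreathDet, MonoidHom.comp_apply, wreathGL, SemidirectProduct.lift_inr]
  exact det_permGL _

theorem wreathDet_single (i : Fin m) (d : D) :
    wreathDet D R (SemidirectProduct.inl (Pi.mulSingle i d)) =
      GeneralLinearGroup.det (d : GL (Fin 2) F) := by
  rw [wreathDet_inl, Finset.prod_eq_single i]
  · rw [Pi.mulSingle_eq_same]
  · intro j _ hj
    rw [Pi.mulSingle_eq_of_ne hj]
    exact map_one _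
  · simp

end Wreath

variable [Fintype F]

theorem odd_of_three (h4 : Fintype.card F % 4 = 3) : Odd (Fintype.card F) :=
  Nat.odd_iff.2 (by omega)

omit [Field F] in
theorem factorization_pow_sub_one_odd [Nontrivial F] (h4 : Fintype.card F % 4 = 3) {j : ℕ}
    (hj : Odd j) : (Fintype.card F ^ j - 1).factorization 2 = 1 := by
  set q := Fintype.card F
  obtain ⟨k, rfl⟩ := hj
  have hmod : q ^ (2 * k + 1) % 4 = 3 := by
    rw [pow_succ, pow_mul, Nat.mul_mod, Nat.pow_mod (q ^ 2) k, Nat.pow_mod q 2, h4]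
    simp
  set M := q ^ (2 * k + 1) - 1 with hM
  have h2 : M % 4 = 2 := by omega
  have hM0 : M ≠ 0 := by omega
  apply le_antisymm
  · by_contra h
    have := (Nat.prime_two.pow_dvd_iff_le_factorization hM0 (k := 2)).2 (by omega)
    omega
  · exact (Nat.prime_two.pow_dvd_iff_le_factorization hM0).1 (by rw [pow_one]; omega)

theorem card_GL_succ (n : ℕ) :
    Nat.card (GL (Fin (n + 1)) F) =
      (Fintype.card F ^ (n + 1) - 1) * Fintype.card F ^ n * Nat.card (GL (Fin n) F) := by
  rw [Matrix.card_GL_field, Matrix.card_GL_field, Fin.prod_univ_succ]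
  simp only [Fin.val_zero, pow_zero, Fin.val_succ]
  rw [mul_assoc]
  congr 1
  rw [show Fintype.card F ^ n = ∏ _i : Fin n, Fintype.card F from by
    rw [Finset.prod_const, Finset.card_univ, Fintype.card_fin], ← Finset.prod_mul_distrib]
  refine Finset.prod_congr rfl fun i _ => ?_
  rw [Finset.prod_const, Finset.card_univ, Fintype.card_fin, Nat.mul_sub, pow_succ', pow_succ']

theorem factorization_GL_succ (h4 : Fintype.card F % 4 = 3) (n : ℕ) :
    (Nat.card (GL (Fin (n + 1)) F)).factorization 2 =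
      (Fintype.card F ^ (n + 1) - 1).factorization 2 + (Nat.card (GL (Fin n) F)).factorization 2 := by
  have hq : 1 < Fintype.card F := Fintype.one_lt_card
  have h1 : Fintype.card F ^ (n + 1) - 1 ≠ 0 := by
    have : 1 < Fintype.card F ^ (n + 1) := Nat.one_lt_pow (Nat.succ_ne_zero n) hq
    omega
  rw [card_GL_succ, Nat.factorization_mul (Nat.mul_ne_zero h1 (pow_ne_zero _ (by omega)))
    Nat.card_pos.ne', Finsupp.add_apply, Nat.factorization_mul h1 (pow_ne_zero _ (by omega)),
    Finsupp.add_apply, Nat.factorization_eq_zero_of_not_dvd (n := Fintype.card F ^ n)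
      (fun h => by have := Nat.prime_two.dvd_of_dvd_pow h; omega), add_zero]

/-- The `2`-part of `|GL_{2m}|`. -/
theorem factorization_GL_even (h4 : Fintype.card F % 4 = 3) (m : ℕ) :
    (Nat.card (GL (Fin (2 * m)) F)).factorization 2 =
      m * (1 + (Fintype.card F ^ 2 - 1).factorization 2) + m.factorial.factorization 2 := by
  induction m with
  | zero => simp
  | succ m ih =>
    rw [show 2 * (m + 1) = 2 * m + 1 + 1 by ring, factorization_GL_succ h4, factorization_GL_succ h4,
      ih, factorization_pow_sub_one_odd (F := F) h4 (j := 2 * m + 1) ⟨m, rfl⟩,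
      show 2 * m + 1 + 1 = 2 * (m + 1) by ring,
      CfsgLib.SpSylowTwo.factorization_sq_pow Fintype.one_lt_card (odd_of_three h4) (Nat.succ_ne_zero m),
      Nat.factorial_succ, Nat.factorization_mul (Nat.succ_ne_zero m) m.factorial_ne_zero,
      Finsupp.add_apply]
    ring


end CfsgLib.SylowAbel
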