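import Cfsg.Agent.Lib.SylowAbel.MonoBase
import Mathlib.LinearAlgebra.Matrix.Permutation

/-!
Sylow `2`-subgroups of `SL_{2^k}(q)`, `q ≡ 1 (mod 4)`: monomial matrices of determinant one.
-/

set_option autoImplicit false

namespace CfsgLib.SylowAbel

open Matrix

variable {F : Type*} [Field F] {n : ℕ}

/-- Permutation matrices. -/
noncomputable def permFin (F : Type*) [Field F] (n : ℕ) : Equiv.Perm (Fin n) →* GL (Fin n) F :=
  MonoidHom.toHomUnits
    { toFun := fun σ => Equiv.Perm.permMatrix F σ⁻¹
      map_one' := by rw [inv_one]; exact Matrix.permMatrix_one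
      map_mul' := fun σ τ => by rw [← Matrix.permMatrix_mul, _root_.mul_inv_rev] }

/-- Diagonal matrices. -/
noncomputable def diagFin (F : Type*) [Field F] (n : ℕ) : (Fin n → Fˣ) →* GL (Fin n) F :=
  MonoidHom.toHomUnits
    ((Matrix.diagonalRingHom (Fin n) F).toMonoidHom.comp ((Units.coeHom F).compLeft (Fin n)))

theorem diagFin_val (f : Fin n → Fˣ) :
    ((diagFin F n f : GL (Fin n) F) : Matrix (Fin n) (Fin n) F) =
      Matrix.diagonal fun i => (f i : F) := rfl

theorem permFin_val (σ : Equiv.Perm (Fin n)) :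
    ((permFin F n σ : GL (Fin n) F) : Matrix (Fin n) (Fin n) F) = Equiv.Perm.permMatrix F σ⁻¹ := rfl

theorem permFin_conj (σ : Equiv.Perm (Fin n)) (f : Fin n → Fˣ) :
    diagFin F n (f ∘ ⇑(σ⁻¹)) = permFin F n σ * diagFin F n f * (permFin F n σ)⁻¹ := by
  rw [eq_mul_inv_iff_mul_eq]
  apply Units.ext
  rw [Units.val_mul, Units.val_mul, diagFin_val, diagFin_val, permFin_val,
    PEquiv.mul_toMatrix_toPEquiv, PEquiv.toMatrix_toPEquiv_mul]
  ext i j
  simp only [Matrix.submatrix_apply, id, Matrix.diagonal_apply, Function.comp_apply]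
  by_cases h : σ⁻¹ i = j
  · rw [if_pos (by rw [Equiv.eq_symm_apply]; exact h), if_pos h]
  · rw [if_neg (by rw [Equiv.eq_symm_apply]; exact h), if_neg h]

variable (C : Subgroup Fˣ) (R : Subgroup (Equiv.Perm (Fin n)))

/-- `Cⁿ ⋊ R`. -/
abbrev MGroup :=
  (Fin n → C) ⋊[(CfsgLib.SpSylowTwo.permAut (ι := Fin n) C).comp R.subtype] R

/-- Monomial matrices. -/
noncomputable def monoGL : MGroup C R →* GL (Fin n) F :=
  SemidirectProduct.lift ((diagFin F n).comp (C.subtype.compLeft (Fin n)))
    ((permFin F n).comp R.subtype) fun σ => by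
      ext1 g
      exact permFin_conj (σ : Equiv.Perm (Fin n)) fun i => (g i : Fˣ)

theorem monoGL_injective : Function.Injective (monoGL C R) := by
  rw [injective_iff_map_eq_one]
  rintro ⟨f, σ⟩ hx
  change diagFin F n (fun i => (f i : Fˣ)) * permFin F n (σ : Equiv.Perm (Fin n)) = 1 at hx
  have hσ : σ = 1 := by
    refine Subtype.ext (inv_eq_one.1 (Equiv.ext fun i => ?_))
    by_contra hne
    have h := congrArg Units.val (eq_inv_of_mul_eq_one_right hx)
    rw [permFin_val, ← map_inv, diagFin_val] at h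
    have h1 := congrFun (congrFun h i) ((σ : Equiv.Perm (Fin n))⁻¹ i)
    have hL : Equiv.Perm.permMatrix F (σ : Equiv.Perm (Fin n))⁻¹ i
        ((σ : Equiv.Perm (Fin n))⁻¹ i) = 1 := by
      show (if _ then _ else _) = _
      exact if_pos rfl
    rw [hL, Matrix.diagonal_apply, if_neg (fun h => hne h.symm)] at h1
    exact one_ne_zero h1
  subst hσ
  rw [OneMemClass.coe_one, map_one, mul_one] at hx
  have hf : f = 1 := funext fun i => Subtype.ext (Units.ext (by
    have h := congrArg (fun g : GL (Fin n) F => (g : Matrix (Fin n) (Fin n) F) i i) hx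
    simpa [diagFin_val, Matrix.one_apply] using h))
  subst hf; rfl

/-- The determinant. -/
noncomputable def monoDet : MGroup C R →* Fˣ := GeneralLinearGroup.det.comp (monoGL C R)

theorem monoDet_inl (f : Fin n → C) :
    monoDet C R (SemidirectProduct.inl f) = ((∏ i, f i : C) : Fˣ) := by
  rw [monoDet, MonoidHom.comp_apply, monoGL, SemidirectProduct.lift_inl]
  apply Units.ext
  show Matrix.det (Matrix.diagonal _) = _
  rw [Matrix.det_diagonal, SubmonoidClass.coe_finsetProd, Units.coe_prod]
  rfl

theorem monoDet_inr (σ : R) :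
    ((monoDet C R (SemidirectProduct.inr σ) : Fˣ) : F) =
      ((Equiv.Perm.sign (σ : Equiv.Perm (Fin n)) : ℤ) : F) := by
  rw [monoDet, MonoidHom.comp_apply, monoGL, SemidirectProduct.lift_inr]
  show Matrix.det (Equiv.Perm.permMatrix F _) = _
  rw [Matrix.det_permutation, Equiv.Perm.sign_inv]
  rfl

/-- The product of the entries. -/
def prodHom : (Fin n → C) →* C where
  toFun f := ∏ i, f i
  map_one' := Finset.prod_const_one
  map_mul' f g := Finset.prod_mul_distrib

/-- The diagonal part of determinant one. -/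
noncomputable def diagKer : (prodHom C (n := n)).ker →* (monoDet C R).ker :=
  ((SemidirectProduct.inl : _ →* MGroup C R).comp (prodHom C).ker.subtype).codRestrict _ fun f => by
    rw [MonoidHom.mem_ker, MonoidHom.comp_apply, monoDet_inl]
    exact congrArg Subtype.val (f.2 : prodHom C (f : Fin n → C) = 1)

/-- `c` at `i`, `c⁻¹` at `j`. -/
def pairDiag (i j : Fin n) : C →* (prodHom C (n := n)).ker :=
  ((MonoidHom.mulSingle (fun _ : Fin n => C) i) / (MonoidHom.mulSingle (fun _ : Fin n => C) j)).codRestrict _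
    fun c => by
      rw [MonoidHom.mem_ker, MonoidHom.div_apply, map_div]
      show (∏ k, Pi.mulSingle i c k) / (∏ k, Pi.mulSingle j c k) = 1
      rw [Finset.prod_pi_mulSingle', Finset.prod_pi_mulSingle']
      simp

/-- Pairs of coordinates all whose opposite entries are good. -/
def Rel (i j : Fin n) : Prop := ∀ c : C, Good 2 (diagKer C R (pairDiag C i j c))

variable {C R}

theorem pairDiag_val (i j : Fin n) (c : C) :
    ((pairDiag C i j c : (prodHom C (n := n)).ker) : Fin n → C) =
      Pi.mulSingle i c / Pi.mulSingle j c := rfl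

theorem rel_refl (i : Fin n) : Rel C R i i := fun c => by
  have : pairDiag C i i c = 1 := Subtype.ext (div_self' _)
  rw [this, map_one]
  exact good_of_pow_eq_one (one_pow 2)

theorem rel_symm {i j : Fin n} (h : Rel C R i j) : Rel C R j i := fun c => by
  have : pairDiag C j i c = (pairDiag C i j c)⁻¹ := Subtype.ext (inv_div _ _).symm
  rw [this, map_inv, ← mem_goodSubgroup]
  exact Subgroup.inv_mem _ (mem_goodSubgroup.2 (h c))

theorem rel_trans {i j k : Fin n} (h : Rel C R i j) (h' : Rel C R j k) : Rel C R i k := fun c => by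
  have : pairDiag C i k c = pairDiag C i j c * pairDiag C j k c :=
    Subtype.ext (div_mul_div_cancel _ _ _).symm
  rw [this, map_mul, ← mem_goodSubgroup]
  exact Subgroup.mul_mem _ (mem_goodSubgroup.2 (h c)) (mem_goodSubgroup.2 (h' c))

/-- A lift of `r` exchanges the two entries. -/
theorem pair_sq_mem {x : (monoDet C R).ker} {r : R} (hxr : (x : MGroup C R).right = r)
    {i j : Fin n} (hij : (r : Equiv.Perm (Fin n)) i = j) (hji : (r : Equiv.Perm (Fin n)) j = i)
    (c : C) : diagKer C R (pairDiag C i j c) ^ 2 ∈ commutator (monoDet C R).ker := by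
  set d := diagKer C R (pairDiag C i j c) with hd
  have hconj : x * d * x⁻¹ = diagKer C R (pairDiag C j i c) := by
    apply Subtype.ext
    show (x : MGroup C R) * SemidirectProduct.inl ((pairDiag C i j c : (prodHom C).ker) : Fin n → C) *
      (x : MGroup C R)⁻¹ = SemidirectProduct.inl ((pairDiag C j i c : (prodHom C).ker) : Fin n → C)
    conv_lhs => rw [← SemidirectProduct.inl_left_mul_inr_right (x : MGroup C R), hxr]
    rw [_root_.mul_inv_rev, show ∀ a b d e : MGroup C R, a * b * d * (b⁻¹ * e) = a * (b * d * b⁻¹) * e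
      from fun a b d e => by group, ← map_inv SemidirectProduct.inr,
      ← SemidirectProduct.inl_aut, ← map_mul, ← map_inv, ← map_mul]
    congr 1
    rw [mul_comm (x : MGroup C R).left, mul_inv_cancel_right, pairDiag_val, pairDiag_val]
    funext k
    show (Pi.mulSingle i c / Pi.mulSingle j c : Fin n → C) ((r : Equiv.Perm (Fin n))⁻¹ k) =
      (Pi.mulSingle j c / Pi.mulSingle i c : Fin n → C) k
    have h1 : (r : Equiv.Perm (Fin n))⁻¹ k = i ↔ k = j := by
      rw [Equiv.Perm.inv_eq_iff_eq, hij]
    have h2 : (r : Equiv.Perm (Fin n))⁻¹ k = j ↔ k = i := by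
      rw [Equiv.Perm.inv_eq_iff_eq, hji]
    simp only [Pi.div_apply, Pi.mulSingle_apply, h1, h2]
  have hinv : pairDiag C j i c = (pairDiag C i j c)⁻¹ := Subtype.ext (inv_div _ _).symm
  rw [hinv, map_inv, ← hd] at hconj
  have h3 : d ^ 2 = d * x * d⁻¹ * x⁻¹ := by
    rw [show d * x * d⁻¹ * x⁻¹ = d * (x * d * x⁻¹)⁻¹ by group, hconj, inv_inv, pow_two]
  rw [h3, commutator_def]
  exact Subgroup.commutator_mem_commutator (Subgroup.mem_top _) (Subgroup.mem_top _)

/-- **The monomial matrices of determinant one are good.** -/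
theorem good_monoDet_ker [NeZero n] {S : Set (Equiv.Perm (Fin n))} (hR : Subgroup.closure S = R)
    (hS : ∀ s ∈ S, s ^ 2 = 1) [MulAction.IsPretransitive R (Fin n)] {z : C}
    (hz : ((z : Fˣ) : F) * ((z : Fˣ) : F) = -1) (y : (monoDet C R).ker) : Good 2 y := by
  classical
  set ε : R → C := fun r => if Equiv.Perm.sign (r : Equiv.Perm (Fin n)) = 1 then 1 else z * z with hε
  have hεdet : ∀ r : R, SemidirectProduct.inl (Pi.mulSingle (0 : Fin n) (ε r)) * SemidirectProduct.inr r
      ∈ (monoDet C R).ker := by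
    intro r
    rw [MonoidHom.mem_ker, map_mul, monoDet_inl, Finset.prod_pi_mulSingle']
    apply Units.ext
    rw [Units.val_mul, monoDet_inr, if_pos (Finset.mem_univ _), Units.val_one]
    by_cases h : Equiv.Perm.sign (r : Equiv.Perm (Fin n)) = 1
    · simp [hε, h]
    · rw [(Int.units_eq_one_or _).resolve_left h]
      simp [hε, h, hz]
  let lift : R → (monoDet C R).ker := fun r => ⟨_, hεdet r⟩
  have hlift : ∀ r : R, ((lift r : MGroup C R)).right = r := fun r => by simp [lift]
  have hswap : ∀ r : R, (r : Equiv.Perm (Fin n)) ∈ S → ∀ i,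
      (r : Equiv.Perm (Fin n)) ((r : Equiv.Perm (Fin n)) i) = i := fun r hr i => by
    rw [← Equiv.Perm.mul_apply, ← pow_two, hS _ hr, Equiv.Perm.one_apply]
  have hrelS : ∀ (r : R), (r : Equiv.Perm (Fin n)) ∈ S → ∀ i, Rel C R i ((r : Equiv.Perm (Fin n)) i) :=
    fun r hr i c => pair_sq_mem (hlift r) rfl (hswap r hr i) c
  have hrel : ∀ i j : Fin n, Rel C R i j := by
    have key : ∀ r : R, ∀ i, Rel C R i ((r : Equiv.Perm (Fin n)) i) := by
      rintro ⟨r, hr⟩
      have hr' : r ∈ Subgroup.closure S := hR.symm ▸ hr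
      show ∀ i, Rel C R i (r i)
      clear hr
      induction hr' using Subgroup.closure_induction with
      | mem s hs => exact hrelS ⟨s, hR ▸ Subgroup.subset_closure hs⟩ hs
      | one => exact fun i => rel_refl i
      | mul a b _ _ ha hb => exact fun i => rel_trans (hb i) (ha (b i))
      | inv a _ ha =>
        intro i
        have := rel_symm (ha (a⁻¹ i))
        rwa [show a (a⁻¹ i) = i from a.apply_symm_apply i] at this
    intro i j
    obtain ⟨r, hr⟩ := MulAction.exists_smul_eq R i j
    exact hr ▸ key r i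
  have hdiag : ∀ f : (prodHom C (n := n)).ker, Good 2 (diagKer C R f) := by
    intro f
    let Δ : (Fin n → C) →* (prodHom C (n := n)).ker :=
      { toFun := fun g => ⟨g * Pi.mulSingle 0 (∏ k, g k)⁻¹, by
          rw [MonoidHom.mem_ker]
          show ∏ k, (g k * Pi.mulSingle (M := fun _ : Fin n => C) 0 (∏ k, g k)⁻¹ k) = 1
          rw [Finset.prod_mul_distrib, Finset.prod_pi_mulSingle']
          simp⟩
        map_one' := by ext1; simp
        map_mul' := fun a b => by
          ext1
          show a * b * Pi.mulSingle (M := fun _ : Fin n => C) 0 (∏ k, (a k * b k))⁻¹ =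
            a * Pi.mulSingle (M := fun _ : Fin n => C) 0 (∏ k, a k)⁻¹ *
              (b * Pi.mulSingle (M := fun _ : Fin n => C) 0 (∏ k, b k)⁻¹)
          rw [Finset.prod_mul_distrib, _root_.mul_inv, Pi.mulSingle_mul]
          exact mul_mul_mul_comm _ _ _ _ }
    have hΔ : Δ (f : Fin n → C) = f := Subtype.ext (by
      show (f : Fin n → C) * Pi.mulSingle (M := fun _ : Fin n => C) 0 (∏ k, (f : Fin n → C) k)⁻¹ = _
      rw [show ∏ k, (f : Fin n → C) k = 1 from f.2, inv_one, Pi.mulSingle_one, mul_one])
    rw [← hΔ, ← mem_goodSubgroup]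
    refine (Subgroup.pi_mem_of_mulSingle_mem
      (H := (goodSubgroup 2 (monoDet C R).ker).comap ((diagKer C R).comp Δ)) (f : Fin n → C) fun i => ?_)
    rw [Subgroup.mem_comap, mem_goodSubgroup, MonoidHom.comp_apply]
    have : Δ (Pi.mulSingle i ((f : Fin n → C) i)) = pairDiag C i 0 ((f : Fin n → C) i) := Subtype.ext (by
      show Pi.mulSingle i _ * Pi.mulSingle (M := fun _ : Fin n => C) 0 _ = _
      rw [Finset.prod_pi_mulSingle', if_pos (Finset.mem_univ _), Pi.mulSingle_inv, ← div_eq_mul_inv,
        pairDiag_val])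
    rw [this]
    exact hrel i 0 _
  have hgoodlift : ∀ r : R, (r : Equiv.Perm (Fin n)) ∈ S → Good 2 (lift r) := by
    intro r hr
    by_cases h : Equiv.Perm.sign (r : Equiv.Perm (Fin n)) = 1
    · refine good_of_pow_eq_one (Subtype.ext ?_)
      show (SemidirectProduct.inl (Pi.mulSingle (0 : Fin n) (ε r)) * SemidirectProduct.inr r : MGroup C R) ^ 2 = 1
      have : ε r = 1 := if_pos h
      rw [this, Pi.mulSingle_one, map_one, one_mul, ← map_pow,
        show r ^ 2 = 1 from Subtype.ext (by rw [SubgroupClass.coe_pow, hS _ hr]; rfl), map_one]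
    have hz4 : z * z * (z * z) = 1 := Subtype.ext (Units.ext (by simp [hz]))
    set j := (r : Equiv.Perm (Fin n)) 0 with hj
    have hsq : lift r ^ 2 = diagKer C R (pairDiag C 0 j z) ^ 2 := by
      apply Subtype.ext
      show (SemidirectProduct.inl (Pi.mulSingle (0 : Fin n) (ε r)) * SemidirectProduct.inr r : MGroup C R) ^ 2 =
        (SemidirectProduct.inl ((pairDiag C 0 j z : (prodHom C).ker) : Fin n → C)) ^ 2
      have hee : ε r = z * z := if_neg h
      rw [pow_two, show ∀ a b : MGroup C R, a * b * (a * b) = a * (b * a * b⁻¹) * (b * b) from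
          fun a b => by group, ← map_inv, ← SemidirectProduct.inl_aut, ← map_mul,
        ← map_mul SemidirectProduct.inr,
        show r * r = 1 from Subtype.ext (by rw [Subgroup.coe_mul, ← pow_two, hS _ hr]; rfl),
        map_one, mul_one, ← map_pow, pairDiag_val, hee]
      congr 1
      funext k
      show Pi.mulSingle (M := fun _ : Fin n => C) 0 (z * z) k *
          Pi.mulSingle (M := fun _ : Fin n => C) 0 (z * z) ((r : Equiv.Perm (Fin n))⁻¹ k) =
        ((Pi.mulSingle (M := fun _ : Fin n => C) 0 z / Pi.mulSingle (M := fun _ : Fin n => C) j z :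
          Fin n → C) k) ^ 2
      have h1 : (r : Equiv.Perm (Fin n))⁻¹ k = 0 ↔ k = j := Equiv.Perm.inv_eq_iff_eq
      have hinv : (z * z)⁻¹ = z * z := inv_eq_of_mul_eq_one_right hz4
      simp only [Pi.div_apply, Pi.mulSingle_apply, h1]
      split_ifs
      · rw [hz4, div_self', one_pow]
      · rw [mul_one, div_one, pow_two]
      · rw [one_mul, one_div, pow_two, ← _root_.mul_inv, hinv]
      · rw [one_mul, div_one, one_pow]
    rw [Good, hsq]
    exact pair_sq_mem (hlift r) rfl (hswap r hr 0) z
  have htop : ∀ r : R, ∃ l : (monoDet C R).ker, Good 2 l ∧ (l : MGroup C R).right = r := by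
    intro r
    have : r ∈ (goodSubgroup 2 (monoDet C R).ker).map
        ((SemidirectProduct.rightHom).comp (monoDet C R).ker.subtype) := by
      obtain ⟨r, hr⟩ := r
      subst hR
      have hmem : (⟨r, hr⟩ : Subgroup.closure S) ∈ Subgroup.closure
          ((Subtype.val : Subgroup.closure S → Equiv.Perm (Fin n)) ⁻¹' S) :=
        Subgroup.closure_closure_coe_preimage (k := S) ▸ Subgroup.mem_top _
      refine (Subgroup.closure_le _).2 (fun t ht => ?_) hmem
      exact ⟨lift t, mem_goodSubgroup.2 (hgoodlift t ht), hlift t⟩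
    obtain ⟨l, hl, hlr⟩ := this
    exact ⟨l, mem_goodSubgroup.1 hl, hlr⟩
  obtain ⟨l, hl, hlr⟩ := htop (y : MGroup C R).right
  have hr1 : ((y * l⁻¹ : (monoDet C R).ker) : MGroup C R).right = 1 := by simp [hlr]
  set w := y * l⁻¹ with hw
  have hwinl : (w : MGroup C R) = SemidirectProduct.inl (w : MGroup C R).left := by
    conv_lhs => rw [← SemidirectProduct.inl_left_mul_inr_right (w : MGroup C R), hr1, map_one, mul_one]
  have hwker : prodHom C (w : MGroup C R).left = 1 := by
    have h : monoDet C R (w : MGroup C R) = 1 := MonoidHom.mem_ker.1 w.2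
    rw [hwinl, monoDet_inl] at h
    exact Subtype.ext h
  have hwd : w = diagKer C R ⟨_, hwker⟩ := Subtype.ext hwinl
  rw [← mem_goodSubgroup, show y = w * l by rw [hw, inv_mul_cancel_right]]
  exact Subgroup.mul_mem _ (mem_goodSubgroup.2 (hwd ▸ hdiag _)) (mem_goodSubgroup.2 hl)

end CfsgLib.SylowAbel
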