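import Cfsg.Agent.Lib.SylowAbel.GLBase

/-!
The `2`-part of `|GL_n(q)|` for `q ≡ 1 (mod 4)`; transitivity of Sylow `2`-subgroups of `S_{2^k}`.
-/

set_option autoImplicit false

namespace CfsgLib.SylowAbel

open Matrix

variable {F : Type*} [Field F] [Fintype F]

omit [Field F] in
theorem factorization_pow_sub_one_of_one [Nontrivial F] (h4 : Fintype.card F % 4 = 1) {i : ℕ}
    (hi : i ≠ 0) :
    (Fintype.card F ^ i - 1).factorization 2 =
      (Fintype.card F - 1).factorization 2 + i.factorization 2 := by
  set q := Fintype.card F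
  have hq : 1 < q := Fintype.one_lt_card
  rcases Nat.even_or_odd i with ⟨j, rfl⟩ | hodd
  · have hj : j ≠ 0 := by omega
    have h1 : (q + 1).factorization 2 = 1 := by
      apply le_antisymm
      · by_contra h
        have := (Nat.prime_two.pow_dvd_iff_le_factorization (by omega : q + 1 ≠ 0) (k := 2)).2 (by omega)
        omega
      · exact (Nat.prime_two.pow_dvd_iff_le_factorization (by omega : q + 1 ≠ 0)).1
          (by rw [pow_one]; omega)
    have h2 : q ^ 2 - 1 = (q + 1) * (q - 1) := by
      simpa using Nat.sq_sub_sq q 1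
    rw [← two_mul, CfsgLib.SpSylowTwo.factorization_sq_pow hq (Nat.odd_iff.2 (by omega)) hj, h2,
      Nat.factorization_mul (by omega : q + 1 ≠ 0) (by omega), Nat.factorization_mul two_ne_zero hj,
      Finsupp.add_apply, Finsupp.add_apply, h1, Nat.prime_two.factorization,
      Finsupp.single_eq_same]
    ring
  · have hsum : ¬ 2 ∣ ∑ k ∈ Finset.range i, q ^ k := by
      rw [Nat.two_dvd_ne_zero, Finset.sum_nat_mod]
      have : ∀ k ∈ Finset.range i, q ^ k % 2 = 1 := fun k _ => by
        rw [Nat.pow_mod, show q % 2 = 1 by omega]; simp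
      rw [Finset.sum_congr rfl this, Finset.sum_const, Finset.card_range, smul_eq_mul, mul_one]
      exact Nat.odd_iff.1 hodd
    have h0 : (∑ k ∈ Finset.range i, q ^ k) ≠ 0 := fun h => hsum (h ▸ dvd_zero 2)
    have heq : q ^ i - 1 = (∑ k ∈ Finset.range i, q ^ k) * (q - 1) := by
      have := geom_sum_mul_of_one_le hq.le i
      omega
    rw [heq, Nat.factorization_mul h0 (by omega), Finsupp.add_apply,
      Nat.factorization_eq_zero_of_not_dvd hsum, zero_add,
      Nat.factorization_eq_zero_of_not_dvd (n := i)
        (fun h => (Nat.not_even_iff_odd.2 hodd) (even_iff_two_dvd.2 h)), add_zero]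

theorem factorization_GL_one (h4 : Fintype.card F % 4 = 1) (n : ℕ) :
    (Nat.card (GL (Fin n) F)).factorization 2 =
      n * (Fintype.card F - 1).factorization 2 + n.factorial.factorization 2 := by
  have hq : 1 < Fintype.card F := Fintype.one_lt_card
  induction n with
  | zero => simp
  | succ n ih =>
    have h1 : Fintype.card F ^ (n + 1) - 1 ≠ 0 := by
      have : 1 < Fintype.card F ^ (n + 1) := Nat.one_lt_pow (Nat.succ_ne_zero n) hq
      omega
    rw [card_GL_succ, Nat.factorization_mul (Nat.mul_ne_zero h1 (pow_ne_zero _ (by omega)))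
      Nat.card_pos.ne', Finsupp.add_apply, Nat.factorization_mul h1 (pow_ne_zero _ (by omega)),
      Finsupp.add_apply, Nat.factorization_eq_zero_of_not_dvd (n := Fintype.card F ^ n)
        (fun h => by have := Nat.prime_two.dvd_of_dvd_pow h; omega), add_zero, ih,
      factorization_pow_sub_one_of_one h4 (Nat.succ_ne_zero n), Nat.factorial_succ,
      Nat.factorization_mul (Nat.succ_ne_zero n) n.factorial_ne_zero, Finsupp.add_apply]
    ring

/-- A Sylow `2`-subgroup of `S_{2^k}` is transitive. -/
theorem pretransitive_sylow {k n : ℕ} (hn : n = 2 ^ k) (P : Subgroup (Equiv.Perm (Fin n)))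
    (hP : Nat.card P = 2 ^ n.factorial.factorization 2) :
    MulAction.IsPretransitive P (Fin n) := by
  obtain ⟨j, rfl⟩ : ∃ j, n = j + 1 := ⟨n - 1, by have := Nat.two_pow_pos k; omega⟩
  rw [MulAction.isPretransitive_iff_orbit_eq_univ (0 : Fin (j + 1))]
  set s := MulAction.stabilizer P (0 : Fin (j + 1))
  have hsdvd : Nat.card s ∣ j.factorial := by
    have hpt : MulAction.IsPretransitive (Equiv.Perm (Fin (j + 1))) (Fin (j + 1)) := inferInstance
    set S' := MulAction.stabilizer (Equiv.Perm (Fin (j + 1))) (0 : Fin (j + 1))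
    have hS' : Nat.card S' = j.factorial := by
      have h := S'.card_mul_index
      rw [MulAction.index_stabilizer_of_transitive, Nat.card_perm, Nat.card_fin,
        Nat.factorial_succ] at h
      exact Nat.eq_of_mul_eq_mul_right (show 0 < j + 1 by omega) (by rw [h]; ring)
    rw [← hS']
    let f : s →* S' :=
      { toFun := fun g => ⟨((g : P) : Equiv.Perm (Fin (j + 1))), g.2⟩
        map_one' := rfl
        map_mul' := fun a b => rfl }
    exact Subgroup.card_dvd_of_injective f fun a b h =>
      Subtype.ext (Subtype.ext (congrArg (fun z : S' => (z : Equiv.Perm (Fin (j + 1)))) h))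
  obtain ⟨e, -, he⟩ := (Nat.dvd_prime_pow Nat.prime_two).1
    (hP ▸ Subgroup.card_subgroup_dvd_card s)
  have hej : e ≤ j.factorial.factorization 2 :=
    (Nat.prime_two.pow_dvd_iff_le_factorization j.factorial_ne_zero).1 (he ▸ hsdvd)
  have hi := s.card_mul_index
  have hv : (j + 1).factorization 2 = k := by
    rw [hn, Nat.prime_two.factorization_pow, Finsupp.single_eq_same]
  rw [he, hP, Nat.factorial_succ, Nat.factorization_mul (show j + 1 ≠ 0 by omega) j.factorial_ne_zero,
    Finsupp.add_apply, hv] at hi
  have h2 : 2 ^ k ≤ s.index := by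
    refine Nat.le_of_mul_le_mul_left ?_ (Nat.two_pow_pos e)
    rw [hi, ← pow_add]
    exact Nat.pow_le_pow_right two_pos (by omega)
  rw [MulAction.index_stabilizer] at h2
  have hn' : j + 1 ≤ _ := hn.le.trans h2
  refine Set.eq_of_subset_of_ncard_le (Set.subset_univ _) ?_
  rwa [Set.ncard_univ, Nat.card_fin]

end CfsgLib.SylowAbel
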