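import Cfsg.Agent.Lib.SylowAbel.GLBase
import Cfsg.Agent.Lib.SylowAbel.Pi
import Cfsg.Agent.Lib.TwoFusion.GLTwoSylow

/-!
A Sylow `2`-subgroup of `GL₂(q)`, `q ≡ 3 (mod 4)`, containing the swap.
-/

set_option autoImplicit false
set_option maxHeartbeats 400000

namespace CfsgLib.SylowAbel

open Matrix

variable {F : Type*} [Field F]

/-- The determinant on a subgroup. -/
noncomputable def detOn (D : Subgroup (GL (Fin 2) F)) : D →* Fˣ :=
  GeneralLinearGroup.det.comp D.subtype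

/-- What is used about a Sylow `2`-subgroup of `GL₂`. -/
structure SylData (D : Subgroup (GL (Fin 2) F)) (w : D) : Prop where
  two : w * w = 1
  det_w : detOn D w = -1
  pm : ∀ d : D, detOn D d = 1 ∨ detOn D d = -1
  good : ∀ d : (detOn D).ker, Good 2 d

variable [Fintype F]

theorem neg_one_ne_one (h4 : Fintype.card F % 4 = 3) : (-1 : Fˣ) ≠ 1 := fun h =>
  CfsgLib.TwoFusion.GLTwoSylow.two_ne_zero_of_odd (F := F) (odd_of_three h4) (by
    have := congrArg Units.val h
    rw [Units.val_neg, Units.val_one] at this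
    linear_combination -this)

theorem pm_of_pow (h4 : Fintype.card F % 4 = 3) {u : Fˣ} {k : ℕ} (hu : u ^ 2 ^ k = 1) :
    u = 1 ∨ u = -1 := by
  have h1 : orderOf u ∣ 2 ^ k := orderOf_dvd_of_pow_eq_one hu
  have h2 : orderOf u ∣ Fintype.card F - 1 := by
    rw [← Nat.card_eq_fintype_card, ← Nat.card_units]
    exact orderOf_dvd_natCard u
  obtain ⟨i, -, hi⟩ := (Nat.dvd_prime_pow Nat.prime_two).1 h1
  have hi1 : i ≤ 1 := by
    by_contra h
    have h4' : (2 : ℕ) ^ 2 ∣ Fintype.card F - 1 :=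
      (pow_dvd_pow 2 (show 2 ≤ i by omega)).trans (hi ▸ h2)
    omega
  have hsq : (u : F) * u = 1 := by
    rw [← Units.val_mul, ← pow_two, orderOf_dvd_iff_pow_eq_one.1
      (hi ▸ (pow_dvd_pow 2 hi1).trans (dvd_of_eq (pow_one 2))), Units.val_one]
  rcases mul_self_eq_one_iff.1 hsq with h | h
  · exact Or.inl (Units.ext h)
  · exact Or.inr (Units.ext (by rw [Units.val_neg, Units.val_one]; exact h))

theorem card_pm (h4 : Fintype.card F % 4 = 3) : Nat.card (Subgroup.zpowers (-1 : Fˣ)) = 2 := by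
  rw [Nat.card_zpowers]
  exact orderOf_eq_prime (hp := ⟨Nat.prime_two⟩) (by rw [neg_one_sq]) (neg_one_ne_one h4)

theorem factorization_GL_two (h4 : Fintype.card F % 4 = 3) :
    (Nat.card (GL (Fin 2) F)).factorization 2 = 1 + (Fintype.card F ^ 2 - 1).factorization 2 := by
  have h := factorization_GL_even (F := F) h4 1
  simp only [mul_one, Nat.factorial_one, Nat.factorization_one, Finsupp.coe_zero, Pi.zero_apply,
    add_zero, one_mul] at h
  exact h

theorem factorization_GL_eq_SL (h4 : Fintype.card F % 4 = 3) {n : ℕ} (hn : 1 ≤ n) :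
    (Nat.card (GL (Fin n) F)).factorization 2 =
      1 + (Nat.card (SpecialLinearGroup (Fin n) F)).factorization 2 := by
  haveI : Nonempty (Fin n) := ⟨⟨0, hn⟩⟩
  have h1 := factorization_pow_sub_one_odd (F := F) h4 (j := 1) ⟨0, rfl⟩
  rw [pow_one] at h1
  rw [CfsgLib.Linear.card_GL_eq_mul_card_SL, Nat.factorization_mul
    (by have := Fintype.one_lt_card (α := F); omega) Nat.card_pos.ne', Finsupp.add_apply, h1]

theorem exists_sylData (h4 : Fintype.card F % 4 = 3) :
    ∃ (D : Subgroup (GL (Fin 2) F)) (w : D),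
      Nat.card D = 2 ^ (Nat.card (GL (Fin 2) F)).factorization 2 ∧ SylData D w := by
  classical
  haveI : Fact (Nat.Prime 2) := ⟨Nat.prime_two⟩
  have hw : orderOf (CfsgLib.TwoFusion.GLTwoSylow.sw : GL (Fin 2) F) = 2 := CfsgLib.TwoFusion.GLTwoSylow.orderOf_sw
  obtain ⟨P, hP⟩ := (IsPGroup.of_card (p := 2) (n := 1) (by rw [Nat.card_zpowers, hw, pow_one]) :
    IsPGroup 2 (Subgroup.zpowers (CfsgLib.TwoFusion.GLTwoSylow.sw : GL (Fin 2) F))).exists_le_sylow
  obtain ⟨D, hD⟩ : ∃ D, D = (P : Subgroup (GL (Fin 2) F)) := ⟨_, rfl⟩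
  have hwD : (CfsgLib.TwoFusion.GLTwoSylow.sw : GL (Fin 2) F) ∈ D := hD ▸ hP (Subgroup.mem_zpowers _)
  have hwdet : GeneralLinearGroup.det (CfsgLib.TwoFusion.GLTwoSylow.sw : GL (Fin 2) F) = -1 := by
    apply Units.ext
    show Matrix.det ((CfsgLib.TwoFusion.GLTwoSylow.sw : GL (Fin 2) F) : Matrix (Fin 2) (Fin 2) F) = _
    rw [CfsgLib.TwoFusion.GLTwoSylow.sw_val, Matrix.det_fin_two_of]
    simp
  have hDp : IsPGroup 2 D := hD ▸ P.isPGroup'
  have hcardD : Nat.card D = 2 ^ (Nat.card (GL (Fin 2) F)).factorization 2 := by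
    rw [hD]; exact Sylow.card_eq_multiplicity P
  refine ⟨D, ⟨_, hwD⟩, hcardD, ⟨?_, hwdet, fun d => ?_, ?_⟩⟩
  · apply Subtype.ext
    rw [Subgroup.coe_mul, ← pow_two]
    exact orderOf_dvd_iff_pow_eq_one.1 hw.dvd
  · obtain ⟨k, hk⟩ := hDp d
    exact pm_of_pow h4 (k := k) (by rw [← map_pow, hk, map_one])
  have hrange : (detOn D).range = Subgroup.zpowers (-1 : Fˣ) := by
    refine le_antisymm ?_ (Subgroup.zpowers_le.2 ⟨⟨_, hwD⟩, hwdet⟩)
    rintro _ ⟨d, rfl⟩
    obtain ⟨k, hk⟩ := hDp d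
    rcases pm_of_pow h4 (u := detOn D d) (k := k) (by rw [← map_pow, hk, map_one]) with h | h <;>
      rw [h]
    · exact Subgroup.one_mem _
    · exact Subgroup.mem_zpowers _
  let Q₀ : Subgroup (SpecialLinearGroup (Fin 2) F) := D.comap SpecialLinearGroup.toGL
  let f : Q₀ →* (detOn D).ker :=
    { toFun := fun s => ⟨⟨SpecialLinearGroup.toGL (s : SpecialLinearGroup (Fin 2) F), s.2⟩,
        Units.ext (s : SpecialLinearGroup (Fin 2) F).2⟩
      map_one' := by ext; simp
      map_mul' := fun a b => by ext; simp }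
  have hf : Function.Bijective f := by
    refine ⟨fun a b h => Subtype.ext (SpecialLinearGroup.toGL_injective
      (congrArg (fun z : (detOn D).ker => ((z : D) : GL (Fin 2) F)) h)), fun d => ?_⟩
    have hd' : ((d : D) : GL (Fin 2) F) ∈
        (SpecialLinearGroup.toGL : SpecialLinearGroup (Fin 2) F →* GL (Fin 2) F).range := by
      rw [CfsgLib.Linear.range_toGL_eq_ker_det]; exact d.2
    obtain ⟨s, hs⟩ := hd'
    exact ⟨⟨s, by rw [Subgroup.mem_comap, hs]; exact (d : D).2⟩, Subtype.ext (Subtype.ext hs)⟩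
  have hcardQ : Nat.card Q₀ = 2 ^ (Nat.card (SpecialLinearGroup (Fin 2) F)).factorization 2 := by
    rw [Nat.card_congr (MulEquiv.ofBijective f hf).toEquiv]
    have h := (detOn D).ker.card_mul_index
    rw [Subgroup.index_ker, hrange, card_pm h4, hcardD,
      factorization_GL_eq_SL h4 (by norm_num : 1 ≤ 2), pow_add, pow_one] at h
    omega
  obtain ⟨k, hk, ⟨e₂⟩⟩ := CfsgLib.Linear.sylow_two_SL2_quaternion (odd_of_three h4)
    (Sylow.ofCard Q₀ hcardQ)
  have hQ0 : ∀ x : Q₀, Good 2 x := good_of_equiv e₂.symm (good_quaternion hk)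
  exact good_of_equiv (MulEquiv.ofBijective f hf) hQ0

end CfsgLib.SylowAbel
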