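import Cfsg.Agent.Lib.SylowAbel.G2Model
import Cfsg.Agent.Lib.SylowAbel.Pi
import Cfsg.Agent.Lib.SylowAbel.Mono
import Cfsg.Agent.Lib.SylowAbel.GLTwo

/-!
Sylow `2`-subgroups of `G₂(q)`, `q` odd, are good.
-/

set_option autoImplicit false
set_option maxHeartbeats 800000

namespace CfsgLib.SylowAbel

open Matrix Cfsg.Lie

variable {F : Type*} [Field F]

theorem eq_two_pow_of_mul' {a c s : ℕ} {V W : ℕ} (h1 : a * c = 2 ^ V) (hc : c = 2 ^ W)
    (hV : V = s + W) : a = 2 ^ s := by
  subst hc hV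
  exact Nat.eq_of_mul_eq_mul_right (Nat.two_pow_pos W) (h1.trans (pow_add 2 s W))

theorem commute_of_nonscalar (c a b : Matrix (Fin 2) (Fin 2) F) (hc : ∀ s : F, c ≠ s • 1)
    (ha : a * c = c * a) (hb : b * c = c * b) : a * b = b * a := by
  have key : ∀ a : Matrix (Fin 2) (Fin 2) F, a * c = c * a →
      a 0 1 * c 1 0 = c 0 1 * a 1 0 ∧
      (a 0 0 - a 1 1) * c 0 1 = a 0 1 * (c 0 0 - c 1 1) ∧
      (a 0 0 - a 1 1) * c 1 0 = a 1 0 * (c 0 0 - c 1 1) := by
    intro a h
    have e00 := congrFun (congrFun h 0) 0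
    have e01 := congrFun (congrFun h 0) 1
    have e10 := congrFun (congrFun h 1) 0
    simp [Matrix.mul_apply, Fin.sum_univ_two] at e00 e01 e10
    exact ⟨by linear_combination e00, by linear_combination e01, by linear_combination -e10⟩
  obtain ⟨a1, a2, a3⟩ := key a ha
  obtain ⟨b1, b2, b3⟩ := key b hb
  have hne : c 0 1 ≠ 0 ∨ c 1 0 ≠ 0 ∨ c 0 0 - c 1 1 ≠ 0 := by
    by_contra h
    push Not at h
    obtain ⟨h1, h2, h3⟩ := h
    refine hc (c 0 0) ?_
    ext i j
    fin_cases i <;> fin_cases j <;> simp [h1, h2]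
    linear_combination -h3
  have k : a 0 1 * b 1 0 = b 0 1 * a 1 0 ∧
      (a 0 0 - a 1 1) * b 0 1 = a 0 1 * (b 0 0 - b 1 1) ∧
      (a 0 0 - a 1 1) * b 1 0 = a 1 0 * (b 0 0 - b 1 1) := by
    rcases hne with h | h | h
    · have k1 : a 0 1 * b 1 0 = b 0 1 * a 1 0 :=
        mul_left_cancel₀ h (by linear_combination b 0 1 * a1 - a 0 1 * b1)
      exact ⟨k1, mul_left_cancel₀ h (by linear_combination b 0 1 * a2 - a 0 1 * b2),
        mul_left_cancel₀ h (by linear_combination b 1 0 * a2 - a 1 0 * b2 + (c 0 0 - c 1 1) * k1)⟩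
    · have k1 : a 0 1 * b 1 0 = b 0 1 * a 1 0 :=
        mul_left_cancel₀ h (by linear_combination b 1 0 * a1 - a 1 0 * b1)
      exact ⟨k1, mul_left_cancel₀ h (by
          linear_combination b 0 1 * a3 - a 0 1 * b3 - (c 0 0 - c 1 1) * k1),
        mul_left_cancel₀ h (by linear_combination b 1 0 * a3 - a 1 0 * b3)⟩
    · have k3 : (a 0 0 - a 1 1) * b 1 0 = a 1 0 * (b 0 0 - b 1 1) :=
        mul_left_cancel₀ h (by linear_combination (a 0 0 - a 1 1) * (-b3) + (b 0 0 - b 1 1) * a3)
      exact ⟨mul_left_cancel₀ h (by linear_combination -b 1 0 * a2 + a 1 0 * b2 + c 0 1 * k3),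
        mul_left_cancel₀ h (by linear_combination (a 0 0 - a 1 1) * (-b2) + (b 0 0 - b 1 1) * a2), k3⟩
  obtain ⟨k1, k2, k3⟩ := k
  ext i j
  fin_cases i <;> fin_cases j <;> simp [Matrix.mul_apply, Fin.sum_univ_two]
  · linear_combination k1
  · linear_combination k2
  · linear_combination -k3
  · linear_combination -k1

/-- A matrix with two diagonal entries. -/
noncomputable def dgPair (u v : Fˣ) : GL (Fin 2) F := diagFin F 2 ![u, v]

theorem dgPair_det (u v : Fˣ) : GeneralLinearGroup.det (dgPair u v) = u * v := by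
  apply Units.ext
  show Matrix.det (Matrix.diagonal _) = _
  simp [Matrix.det_diagonal, Fin.prod_univ_two]

/-- The swap. -/
noncomputable def swGL (F : Type*) [Field F] : GL (Fin 2) F := permFin F 2 (Equiv.swap 0 1)

theorem swGL_det : GeneralLinearGroup.det (swGL F) = -1 := by
  apply Units.ext
  show Matrix.det (Equiv.Perm.permMatrix F (Equiv.swap (0 : Fin 2) 1)⁻¹) = _
  rw [Matrix.det_permutation, Equiv.Perm.sign_inv, Equiv.Perm.sign_swap (by decide)]
  simp

theorem dgPair_comm (u : Fˣ) :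
    dgPair u 1 * swGL F * (dgPair u 1)⁻¹ * (swGL F)⁻¹ = dgPair u u⁻¹ := by
  have h := (permFin_conj (F := F) (Equiv.swap (0 : Fin 2) 1) (![u, 1] : Fin 2 → Fˣ)⁻¹).symm
  rw [map_inv] at h
  rw [show dgPair u 1 * swGL F * (dgPair u 1)⁻¹ * (swGL F)⁻¹ =
    dgPair u 1 * (swGL F * (dgPair u 1)⁻¹ * (swGL F)⁻¹) by group, dgPair, swGL, h, ← map_mul, dgPair]
  congr 1
  funext i
  fin_cases i <;> simp

theorem dgPair_sq (u : Fˣ) :
    ((dgPair u 1 ^ 2 : GL (Fin 2) F) : Matrix (Fin 2) (Fin 2) F) =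
      (u : F) • (dgPair u u⁻¹).val := by
  rw [pow_two, dgPair, dgPair, ← map_mul, diagFin_val, diagFin_val]
  ext i j
  fin_cases i <;> fin_cases j <;> simp

/-- The scalar pair. -/
noncomputable def scalPair (u : Fˣ) : pairGroup F :=
  ⟨(dgPair u u, dgPair u u), rfl⟩

theorem toG2_scalPair (u : Fˣ) : toG2 F (scalPair u) = 1 := by
  apply Subtype.ext
  refine Units.ext (Matrix.ext_of_mulVec_single fun i => ?_)
  show (pairGL _).val *ᵥ _ = (1 : Matrix _ _ F) *ᵥ _
  rw [pairGL_mulVec, one_mulVec]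
  generalize (Pi.single i 1 : Fin 8 → F) = x
  have hsc : ∀ M : Matrix (Fin 2) (Fin 2) F,
      (dgPair u u).val * M * ((dgPair u u)⁻¹).val = M := by
    intro M
    have h1 : (dgPair u u).val = (u : F) • (1 : Matrix (Fin 2) (Fin 2) F) := by
      rw [dgPair, diagFin_val]; ext a b; fin_cases a <;> fin_cases b <;> simp
    rw [show (dgPair u u).val * M = M * (dgPair u u).val by
      rw [h1, smul_mul_assoc, one_mul, mul_smul_comm, mul_one], mul_assoc, Units.mul_inv, mul_one]
  show ofPair ((dgPair u u).val * octM x * ((dgPair u u)⁻¹).val)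
    ((dgPair u u).val * octN x * ((dgPair u u)⁻¹).val) = x
  rw [hsc, hsc, ofPair_oct]

variable [Fintype F]

/-- **Sylow `2`-subgroups of `G₂(q)` are good.** -/
theorem good_G2 (h2 : (2 : F) ≠ 0) (Q : Sylow 2 (G2 F)) (y : (Q : Subgroup (G2 F))) : Good 2 y := by
  classical
  haveI : Fact (Nat.Prime 2) := ⟨Nat.prime_two⟩
  have hodd : Odd (Fintype.card F) := Nat.odd_iff.2 (FiniteField.odd_card_of_char_ne_two (fun h => h2 (by
    have := CharP.cast_eq_zero F (ringChar F)
    rw [h] at this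
    exact_mod_cast this)))
  -- the 2-part of the multiplicative group
  let C : Sylow 2 Fˣ := default
  haveI : IsCyclic (C : Subgroup Fˣ) := inferInstance
  obtain ⟨⟨δ, hδ⟩, hgen⟩ := IsCyclic.exists_generator (α := (C : Subgroup Fˣ))
  have hC : ∀ u : Fˣ, (∃ n : ℕ, u ^ 2 ^ n = 1) → u ∈ (C : Subgroup Fˣ) := by
    rintro u ⟨n, hn⟩
    have hp : IsPGroup 2 (Subgroup.zpowers u) := by
      obtain ⟨j, -, hj⟩ := (Nat.dvd_prime_pow Nat.prime_two).1 (orderOf_dvd_of_pow_eq_one hn)
      exact IsPGroup.of_card (n := j) (by rw [Nat.card_zpowers, hj])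
    obtain ⟨P', hP'⟩ := hp.exists_le_sylow
    haveI : Unique (Sylow 2 Fˣ) := Sylow.unique_of_normal C inferInstance
    exact Subsingleton.elim P' C ▸ hP' (Subgroup.mem_zpowers u)
  -- a Sylow 2-subgroup of GL₂ containing the monomial 2-elements
  have hneg : (-1 : Fˣ) ∈ (C : Subgroup Fˣ) := hC _ ⟨1, by simp⟩
  have hmono : IsPGroup 2 (monoGL (C : Subgroup Fˣ) (⊤ : Subgroup (Equiv.Perm (Fin 2)))).range := by
    refine IsPGroup.of_card (n := 2 * (Nat.card Fˣ).factorization 2 + 1) ?_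
    rw [← Nat.card_congr (MonoidHom.ofInjective (monoGL_injective _ _)).toEquiv,
      SemidirectProduct.card, Nat.card_fun, Subgroup.card_top, Nat.card_perm, Nat.card_fin,
      C.card_eq_multiplicity, ← pow_mul, pow_succ, mul_comm 2]
    rfl
  obtain ⟨D, hD⟩ := hmono.exists_le_sylow
  have hdgD : ∀ u v : Fˣ, u ∈ (C : Subgroup Fˣ) → v ∈ (C : Subgroup Fˣ) → dgPair u v ∈ (D : Subgroup (GL (Fin 2) F)) := by
    intro u v hu hv
    refine hD ⟨SemidirectProduct.inl (fun i => if i = 0 then ⟨u, hu⟩ else ⟨v, hv⟩), ?_⟩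
    rw [monoGL, SemidirectProduct.lift_inl]
    refine congrArg (diagFin F 2) (funext fun i => ?_)
    fin_cases i <;> rfl
  have hswD : swGL F ∈ (D : Subgroup (GL (Fin 2) F)) := by
    refine hD ⟨SemidirectProduct.inr ⟨Equiv.swap 0 1, Subgroup.mem_top _⟩, ?_⟩
    rw [monoGL, SemidirectProduct.lift_inr]
    rfl
  -- determinants on D
  have hdetC : ∀ d ∈ (D : Subgroup (GL (Fin 2) F)), GeneralLinearGroup.det d ∈ (C : Subgroup Fˣ) := by
    intro d hd
    obtain ⟨n, hn⟩ := D.isPGroup' ⟨d, hd⟩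
    exact hC _ ⟨n, by
      rw [← map_pow, show d ^ 2 ^ n = 1 from congrArg Subtype.val hn, map_one]⟩
  let D1 : Subgroup (SpecialLinearGroup (Fin 2) F) :=
    (D : Subgroup (GL (Fin 2) F)).comap SpecialLinearGroup.toGL
  have hD1card : Nat.card D1 = 2 ^ (Nat.card (SpecialLinearGroup (Fin 2) F)).factorization 2 ∧
      Nat.card D = Nat.card D1 * Nat.card (C : Subgroup Fˣ) := by
    let χ : (D : Subgroup (GL (Fin 2) F)) →* Fˣ := GeneralLinearGroup.det.comp (D : Subgroup (GL (Fin 2) F)).subtype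
    have hrange : χ.range = (C : Subgroup Fˣ) := by
      refine le_antisymm ?_ fun u hu => ⟨⟨dgPair u 1, hdgD u 1 hu (one_mem _)⟩, by
        show GeneralLinearGroup.det (dgPair u 1) = u
        rw [dgPair_det, mul_one]⟩
      rintro _ ⟨d, rfl⟩
      exact hdetC _ d.2
    let f : D1 →* χ.ker :=
      { toFun := fun s => ⟨⟨SpecialLinearGroup.toGL (s : SpecialLinearGroup (Fin 2) F), s.2⟩,
          Units.ext (s : SpecialLinearGroup (Fin 2) F).2⟩
        map_one' := by ext; simp
        map_mul' := fun a b => by ext; simp }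
    have hf : Function.Bijective f := by
      refine ⟨fun a b h => Subtype.ext (SpecialLinearGroup.toGL_injective
        (congrArg (fun z : χ.ker => ((z : (D : Subgroup (GL (Fin 2) F))) : GL (Fin 2) F)) h)),
        fun d => ?_⟩
      have hd' : ((d : (D : Subgroup (GL (Fin 2) F))) : GL (Fin 2) F) ∈
          (SpecialLinearGroup.toGL : SpecialLinearGroup (Fin 2) F →* GL (Fin 2) F).range := by
        rw [CfsgLib.Linear.range_toGL_eq_ker_det]; exact d.2
      obtain ⟨s, hs⟩ := hd'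
      exact ⟨⟨s, by rw [Subgroup.mem_comap, hs]; exact (d : (D : Subgroup (GL (Fin 2) F))).2⟩,
        Subtype.ext (Subtype.ext hs)⟩
    have h := χ.ker.card_mul_index
    rw [Subgroup.index_ker, hrange, ← Nat.card_congr (MulEquiv.ofBijective f hf).toEquiv] at h
    refine ⟨?_, h.symm⟩
    refine eq_two_pow_of_mul' (h.trans D.card_eq_multiplicity) C.card_eq_multiplicity ?_
    have hGL := CfsgLib.Linear.card_GL_eq_mul_card_SL (n := Fin 2) (F := F)
    rw [hGL, Nat.factorization_mul (by have := Fintype.one_lt_card (α := F); omega) Nat.card_pos.ne',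
      Finsupp.add_apply, Nat.card_units, Nat.card_eq_fintype_card (α := F), add_comm]
  obtain ⟨hD1, hDcard⟩ := hD1card
  obtain ⟨k, hk, ⟨eQ⟩⟩ := CfsgLib.Linear.sylow_two_SL2_quaternion hodd (Sylow.ofCard D1 hD1)
  have hgood1 : ∀ x : D1, Good 2 x := good_of_equiv eQ.symm (good_quaternion hk)
  -- the subgroup of pairs
  let P0 : Subgroup (pairGroup F) :=
    ((D : Subgroup (GL (Fin 2) F)).prod (D : Subgroup (GL (Fin 2) F))).comap (pairGroup F).subtype
  let f := toG2 F
  let P1 : Subgroup (G2 F) := P0.map f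
  have hmemP1 : ∀ {h : pairGroup F}, h ∈ P0 → f h ∈ P1 := fun hh => ⟨_, hh, rfl⟩
  let i1 : D1 →* P1 :=
    { toFun := fun s => ⟨f ⟨(SpecialLinearGroup.toGL (s : SpecialLinearGroup (Fin 2) F), 1), by
          rw [mem_pairGroup, map_one]
          exact Units.ext (s : SpecialLinearGroup (Fin 2) F).2⟩,
        hmemP1 ⟨s.2, one_mem _⟩⟩
      map_one' := Subtype.ext (by
        show f _ = 1
        rw [← map_one f]
        exact congrArg f (Subtype.ext (Prod.ext (map_one _) rfl)))
      map_mul' := fun a b => Subtype.ext (by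
        show f _ = f _ * f _
        rw [← map_mul f]
        exact congrArg f (Subtype.ext (Prod.ext (map_mul _ _ _) (one_mul (1 : GL (Fin 2) F)).symm))) }
  let i2 : D1 →* P1 :=
    { toFun := fun s => ⟨f ⟨(1, SpecialLinearGroup.toGL (s : SpecialLinearGroup (Fin 2) F)), by
          rw [mem_pairGroup, map_one]
          exact (Units.ext (s : SpecialLinearGroup (Fin 2) F).2).symm⟩,
        hmemP1 ⟨one_mem _, s.2⟩⟩
      map_one' := Subtype.ext (by
        show f _ = 1
        rw [← map_one f]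
        exact congrArg f (Subtype.ext (Prod.ext rfl (map_one _))))
      map_mul' := fun a b => Subtype.ext (by
        show f _ = f _ * f _
        rw [← map_mul f]
        exact congrArg f (Subtype.ext (Prod.ext (one_mul (1 : GL (Fin 2) F)).symm (map_mul _ _ _)))) }
  -- P1 is good
  let xP : P1 := ⟨f ⟨(dgPair δ 1, dgPair δ 1), rfl⟩,
    hmemP1 ⟨hdgD δ 1 hδ (one_mem _), hdgD δ 1 hδ (one_mem _)⟩⟩
  let sP : P1 := ⟨f ⟨(swGL F, swGL F), rfl⟩, hmemP1 ⟨hswD, hswD⟩⟩
  have hxgood : Good 2 xP := by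
    have h : xP ^ 2 = xP * sP * xP⁻¹ * sP⁻¹ := by
      apply Subtype.ext
      show f ⟨(dgPair δ 1, dgPair δ 1), rfl⟩ ^ 2 = f _ * f _ * (f _)⁻¹ * (f _)⁻¹
      rw [← map_pow, ← map_inv, ← map_inv, ← map_mul, ← map_mul, ← map_mul]
      rw [← mul_one (f ((_ : pairGroup F) * _ * _ * _)), ← toG2_scalPair (F := F) δ, ← map_mul]
      have hval : dgPair δ 1 ^ 2 =
          dgPair δ 1 * swGL F * (dgPair δ 1)⁻¹ * (swGL F)⁻¹ * dgPair δ δ := by
        rw [dgPair_comm, pow_two, dgPair, dgPair, dgPair, ← map_mul, ← map_mul]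
        congr 1
        funext i
        fin_cases i <;> simp
      exact congrArg f (Subtype.ext (Prod.ext hval hval))
    rw [Good, h, commutator_def]
    exact Subgroup.commutator_mem_commutator (Subgroup.mem_top _) (Subgroup.mem_top _)
  have hgoodP1 : ∀ x : P1, Good 2 x := by
    rintro ⟨_, ⟨⟨c, p⟩, hcp⟩, hh, rfl⟩
    obtain ⟨hcD, hpD⟩ := hh
    obtain ⟨n, hn⟩ := Subgroup.mem_zpowers_iff.1 (hgen ⟨_, hdetC c hcD⟩)
    have hn' : δ ^ n = GeneralLinearGroup.det c := congrArg Subtype.val hn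
    have hxn : GeneralLinearGroup.det (dgPair δ 1 ^ n) = δ ^ n := by
      rw [map_zpow, dgPair_det, mul_one]
    have hmem : ∀ e : GL (Fin 2) F, e ∈ (D : Subgroup (GL (Fin 2) F)) →
        GeneralLinearGroup.det e = δ ^ n →
        ∃ s : D1, SpecialLinearGroup.toGL (s : SpecialLinearGroup (Fin 2) F) =
          e * (dgPair δ 1 ^ n)⁻¹ := by
      intro e he hde
      have hk' : e * (dgPair δ 1 ^ n)⁻¹ ∈
          (SpecialLinearGroup.toGL : SpecialLinearGroup (Fin 2) F →* GL (Fin 2) F).range := by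
        rw [CfsgLib.Linear.range_toGL_eq_ker_det, MonoidHom.mem_ker, map_mul, map_inv, hde, hxn,
          mul_inv_cancel]
      obtain ⟨s, hs⟩ := hk'
      exact ⟨⟨s, by
        rw [Subgroup.mem_comap, hs]
        exact Subgroup.mul_mem _ he (Subgroup.inv_mem _
          (Subgroup.zpow_mem _ (hdgD δ 1 hδ (one_mem _)) n))⟩, hs⟩
    obtain ⟨s1, hs1⟩ := hmem c hcD hn'.symm
    obtain ⟨s2, hs2⟩ := hmem p hpD ((show GeneralLinearGroup.det c = GeneralLinearGroup.det p from
      hcp).symm.trans hn'.symm)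
    have heq : (⟨f ⟨(c, p), hcp⟩, ⟨_, ⟨hcD, hpD⟩, rfl⟩⟩ : P1) = i1 s1 * i2 s2 * xP ^ n := by
      apply Subtype.ext
      rw [Subgroup.coe_mul, Subgroup.coe_mul, SubgroupClass.coe_zpow]
      show f _ = f _ * f _ * f _ ^ n
      rw [← map_zpow, ← map_mul, ← map_mul]
      refine congrArg f (Subtype.ext ?_)
      show (c, p) = _
      refine Prod.ext ?_ ?_
      · simp [hs1]
      · simp [hs2]
    rw [← mem_goodSubgroup, heq]
    exact Subgroup.mul_mem _ (Subgroup.mul_mem _ (mem_goodSubgroup.2 (good_map i1 (hgood1 s1)))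
      (mem_goodSubgroup.2 (good_map i2 (hgood1 s2))))
      (Subgroup.zpow_mem _ (mem_goodSubgroup.2 hxgood) n)
  -- P1 is a Sylow subgroup of the range
  have hP0 : IsPGroup 2 P0 := by
    let g : P0 →* ↥(D : Subgroup (GL (Fin 2) F)) × ↥(D : Subgroup (GL (Fin 2) F)) :=
      { toFun := fun h => (⟨h.1.1.1, h.2.1⟩, ⟨h.1.1.2, h.2.2⟩)
        map_one' := rfl
        map_mul' := fun a b => rfl }
    refine (IsPGroup.of_card (p := 2) (n := 2 * (Nat.card (GL (Fin 2) F)).factorization 2) ?_ :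
      IsPGroup 2 (↥(D : Subgroup (GL (Fin 2) F)) × ↥(D : Subgroup (GL (Fin 2) F)))).of_injective g ?_
    · rw [Nat.card_prod, D.card_eq_multiplicity, ← pow_add]; ring_nf
    · intro a b h
      exact Subtype.ext (Subtype.ext (Prod.ext (congrArg (fun z => (z.1 : GL (Fin 2) F)) h)
        (congrArg (fun z => (z.2 : GL (Fin 2) F)) h)))
  have hidx : ¬ 2 ∣ P0.index := by
    let π : pairGroup F →* GL (Fin 2) F := (MonoidHom.fst _ _).comp (pairGroup F).subtype
    have hsurj : Function.Surjective π := fun c =>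
      ⟨⟨(c, dgPair (GeneralLinearGroup.det c) 1), by rw [mem_pairGroup, dgPair_det, mul_one]⟩, rfl⟩
    let j : SpecialLinearGroup (Fin 2) F →* pairGroup F :=
      ((1 : SpecialLinearGroup (Fin 2) F →* GL (Fin 2) F).prod SpecialLinearGroup.toGL).codRestrict _
        fun s => by
          rw [mem_pairGroup]
          refine Units.ext ?_
          show (1 : Matrix (Fin 2) (Fin 2) F).det = (SpecialLinearGroup.toGL s).val.det
          rw [det_one]
          exact s.2.symm
    have hj : Function.Injective j := fun a b h =>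
      SpecialLinearGroup.toGL_injective (congrArg (fun z : pairGroup F => z.1.2) h)
    have hker : π.ker = j.range := by
      ext h
      constructor
      · intro hh
        have h1 : h.1.1 = 1 := hh
        have h2' : h.1.2 ∈ (SpecialLinearGroup.toGL : SpecialLinearGroup (Fin 2) F →* GL (Fin 2) F).range := by
          rw [CfsgLib.Linear.range_toGL_eq_ker_det, MonoidHom.mem_ker, ← mem_pairGroup.1 h.2, h1,
            map_one]
        obtain ⟨s, hs⟩ := h2'
        exact ⟨s, Subtype.ext (Prod.ext h1.symm hs)⟩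
      · rintro ⟨s, rfl⟩; rfl
    have hH : Nat.card (pairGroup F) =
        Nat.card (SpecialLinearGroup (Fin 2) F) * Nat.card (GL (Fin 2) F) := by
      have h := π.ker.card_mul_index
      rwa [Subgroup.index_ker, MonoidHom.range_eq_top.2 hsurj, Subgroup.card_top, hker,
        ← Nat.card_congr (MonoidHom.ofInjective hj).toEquiv, eq_comm] at h
    have hlow : Nat.card D1 * Nat.card D ≤ Nat.card P0 := by
      have hwit : ∀ c : (D : Subgroup (GL (Fin 2) F)),
          dgPair (GeneralLinearGroup.det (c : GL (Fin 2) F)) 1 ∈ (D : Subgroup (GL (Fin 2) F)) :=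
        fun c => hdgD _ 1 (hdetC _ c.2) (one_mem _)
      rw [← Nat.card_prod]
      refine Nat.card_le_card_of_injective (fun z : D1 × (D : Subgroup (GL (Fin 2) F)) =>
        (⟨⟨((z.2 : GL (Fin 2) F), SpecialLinearGroup.toGL (z.1 : SpecialLinearGroup (Fin 2) F) *
          dgPair (GeneralLinearGroup.det (z.2 : GL (Fin 2) F)) 1), by
            rw [mem_pairGroup, map_mul, dgPair_det, mul_one,
              show GeneralLinearGroup.det (SpecialLinearGroup.toGL (z.1 : SpecialLinearGroup (Fin 2) F)) = 1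
                from Units.ext (z.1 : SpecialLinearGroup (Fin 2) F).2, one_mul]⟩,
          z.2.2, Subgroup.mul_mem _ z.1.2 (hwit z.2)⟩ : P0)) ?_
      intro a b h
      have h1 : a.2 = b.2 := Subtype.ext (congrArg (fun z : P0 => z.1.1.1) h)
      have h2' := congrArg (fun z : P0 => z.1.1.2) h
      simp only [h1] at h2'
      exact Prod.ext (Subtype.ext (SpecialLinearGroup.toGL_injective (mul_right_cancel h2'))) h1
    obtain ⟨v, hv⟩ := hP0.exists_card_eq
    intro hdvd
    have h1 := P0.card_mul_index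
    obtain ⟨t, ht⟩ := hdvd
    have hdiv : 2 ^ (v + 1) ∣ Nat.card (pairGroup F) := ⟨t, by rw [← h1, hv, ht, pow_succ]; ring⟩
    rw [hH] at hdiv
    have hv1 := (Nat.prime_two.pow_dvd_iff_le_factorization
      (Nat.mul_ne_zero Nat.card_pos.ne' Nat.card_pos.ne')).1 hdiv
    rw [Nat.factorization_mul Nat.card_pos.ne' Nat.card_pos.ne', Finsupp.add_apply] at hv1
    rw [hv, hD1, D.card_eq_multiplicity, ← pow_add] at hlow
    have := (Nat.pow_le_pow_iff_right (le_refl 2)).1 hlow
    omega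
  have hidx1 : ¬ 2 ∣ (P1.subgroupOf f.range).index := by
    have h : P1.subgroupOf f.range = P0.map f.rangeRestrict := by
      ext x
      constructor
      · rintro ⟨h, hh, e⟩; exact ⟨h, hh, Subtype.ext e⟩
      · rintro ⟨h, hh, rfl⟩; exact ⟨h, hh, rfl⟩
    rw [h]
    exact fun hd => hidx (hd.trans (Subgroup.index_map_dvd P0 f.rangeRestrict_surjective))
  -- the involution
  have hzP0 : zPair F ∈ P0 := ⟨one_mem _, by
    have h : (-1 : GL (Fin 2) F) = dgPair (-1) (-1) := by
      apply Units.ext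
      rw [dgPair, diagFin_val]
      ext a b; fin_cases a <;> fin_cases b <;> simp
    show (-1 : GL (Fin 2) F) ∈ _
    rw [h]; exact hdgD _ _ hneg hneg⟩
  have hz1 : f (zPair F) ≠ 1 := fun he => by
    obtain ⟨s, -, hs⟩ := toG2_eq_one he
    have := congrFun (congrFun hs 0) 0
    simp [zPair] at this
    exact h2 (by linear_combination -this)
  obtain ⟨P, hP⟩ := (hP0.map f).exists_le_sylow
  haveI : Nontrivial (P : Subgroup (G2 F)) :=
    ⟨⟨⟨f (zPair F), hP (hmemP1 hzP0)⟩, 1, fun h => hz1 (congrArg Subtype.val h)⟩⟩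
  haveI := P.isPGroup'.center_nontrivial
  obtain ⟨⟨y0, hy0⟩, hy0n⟩ := exists_ne (1 : Subgroup.center (P : Subgroup (G2 F)))
  have hcomm : ∀ g ∈ (P : Subgroup (G2 F)), (y0 : G2 F) * g = g * (y0 : G2 F) := fun g hg =>
    (congrArg Subtype.val (Subgroup.mem_center_iff.1 hy0 ⟨g, hg⟩)).symm
  obtain ⟨⟨⟨c, p⟩, hcp⟩, hy⟩ := mem_range_of_commute h2 (y0 : G2 F) (hcomm _ (hP (hmemP1 hzP0)))
  -- noncommuting elements of D1
  obtain ⟨e₁, e₂, he12⟩ : ∃ a b : D1, a * b ≠ b * a := by
    refine ⟨eQ.symm (QuaternionGroup.a 1), eQ.symm (QuaternionGroup.xa 0), fun h => ?_⟩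
    have h' : QuaternionGroup.a (1 : ZMod (2 * 2 ^ k)) * QuaternionGroup.xa 0 =
        QuaternionGroup.xa 0 * QuaternionGroup.a 1 := eQ.symm.injective (by rw [map_mul, map_mul]; exact h)
    simp only [QuaternionGroup.a_mul_xa, QuaternionGroup.xa_mul_a,
      QuaternionGroup.xa.injEq, zero_add, zero_sub] at h'
    have h2k : 4 ≤ 2 * 2 ^ k := by
      have := Nat.pow_le_pow_right two_pos hk
      omega
    have h'' : ((2 : ℕ) : ZMod (2 * 2 ^ k)) = 0 := by
      push_cast
      linear_combination -h'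
    rw [ZMod.natCast_eq_zero_iff] at h''
    exact absurd (Nat.le_of_dvd two_pos h'') (by omega)
  have hscal : ∀ (c' : GL (Fin 2) F), (∀ s : D1,
      c' * SpecialLinearGroup.toGL (s : SpecialLinearGroup (Fin 2) F) =
        SpecialLinearGroup.toGL (s : SpecialLinearGroup (Fin 2) F) * c') → ∃ t : F, c'.val = t • 1 := by
    intro c' hc'
    by_contra hns
    push Not at hns
    refine he12 (Subtype.ext (SpecialLinearGroup.toGL_injective ?_))
    rw [Subgroup.coe_mul, Subgroup.coe_mul, map_mul, map_mul]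
    exact Units.ext (commute_of_nonscalar c'.val _ _ hns (congrArg Units.val (hc' e₁)).symm
      (congrArg Units.val (hc' e₂)).symm)
  have hker1 : ∀ {a b : pairGroup F}, f a * f b = f b * f a →
      ∃ t : F, (a * b * a⁻¹ * b⁻¹).1.1.val = t • 1 ∧
        (a * b * a⁻¹ * b⁻¹).1.2.val = (a * b * a⁻¹ * b⁻¹).1.1.val := fun {a b} h =>
    toG2_eq_one (by rw [map_mul, map_mul, map_mul, map_inv, map_inv]; show f a * f b * (f a)⁻¹ * (f b)⁻¹ = 1; rw [h]; group)
  have hmemP : ∀ g ∈ P1, (y0 : G2 F) * g = g * (y0 : G2 F) := fun g hg => hcomm g (hP hg)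
  have hb1 : ∀ s : D1, ((SpecialLinearGroup.toGL (s : SpecialLinearGroup (Fin 2) F), 1) :
      GL (Fin 2) F × GL (Fin 2) F) ∈ pairGroup F := fun s => by
    rw [mem_pairGroup, map_one]; exact Units.ext (s : SpecialLinearGroup (Fin 2) F).2
  have hb2 : ∀ s : D1, ((1, SpecialLinearGroup.toGL (s : SpecialLinearGroup (Fin 2) F)) :
      GL (Fin 2) F × GL (Fin 2) F) ∈ pairGroup F := fun s => by
    rw [mem_pairGroup, map_one]; exact (Units.ext (s : SpecialLinearGroup (Fin 2) F).2).symm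
  obtain ⟨t1, ht1⟩ := hscal c fun s => by
    obtain ⟨t, ht, htt⟩ := hker1 (a := ⟨(c, p), hcp⟩) (b := ⟨_, hb1 s⟩)
      (by rw [hy]; exact hmemP _ (i1 s).2)
    simp only [Subgroup.coe_mul, Subgroup.coe_inv, Prod.fst_mul, Prod.snd_mul, Prod.fst_inv,
      Prod.snd_inv, mul_one, inv_one, mul_inv_cancel, Units.val_one] at htt
    have h1 : c * SpecialLinearGroup.toGL (s : SpecialLinearGroup (Fin 2) F) * c⁻¹ *
        (SpecialLinearGroup.toGL (s : SpecialLinearGroup (Fin 2) F))⁻¹ = 1 := Units.ext htt.symm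
    rw [mul_inv_eq_one, mul_inv_eq_iff_eq_mul] at h1
    exact h1
  obtain ⟨t2, ht2⟩ := hscal p fun s => by
    obtain ⟨t, ht, htt⟩ := hker1 (a := ⟨(c, p), hcp⟩) (b := ⟨_, hb2 s⟩)
      (by rw [hy]; exact hmemP _ (i2 s).2)
    simp only [Subgroup.coe_mul, Subgroup.coe_inv, Prod.fst_mul, Prod.snd_mul, Prod.fst_inv,
      Prod.snd_inv, mul_one, inv_one, mul_inv_cancel, Units.val_one] at htt
    have h1 : p * SpecialLinearGroup.toGL (s : SpecialLinearGroup (Fin 2) F) * p⁻¹ *
        (SpecialLinearGroup.toGL (s : SpecialLinearGroup (Fin 2) F))⁻¹ = 1 := Units.ext htt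
    rw [mul_inv_eq_one, mul_inv_eq_iff_eq_mul] at h1
    exact h1
  have hd : t1 * t1 = t2 * t2 := by
    have h := congrArg Units.val (mem_pairGroup.1 hcp)
    rw [GeneralLinearGroup.val_det_apply, GeneralLinearGroup.val_det_apply, ht1, ht2] at h
    simpa [Matrix.det_fin_two, pow_two] using h
  have hy0z : (y0 : G2 F) = f (zPair F) := by
    have hne : (y0 : G2 F) ≠ 1 := fun h => hy0n (Subtype.ext (Subtype.ext h))
    rw [← hy] at hne ⊢
    have hu : ∀ t : F, c.val = t • 1 → t ≠ 0 := fun t ht h0 => by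
      rw [h0, zero_smul] at ht
      exact c.ne_zero ht
    set u : Fˣ := Units.mk0 t1 (hu t1 ht1)
    have hcu : c = dgPair u u := by
      apply Units.ext
      rw [ht1, dgPair, diagFin_val]
      ext a b; fin_cases a <;> fin_cases b <;> simp [u]
    rcases mul_self_eq_mul_self_iff.1 hd with h | h
    · exfalso
      refine hne ?_
      rw [show (⟨(c, p), hcp⟩ : pairGroup F) = scalPair u from Subtype.ext (Prod.ext hcu
        (Units.ext (by rw [ht2, ← h, ← ht1, hcu]; rfl)))]
      exact toG2_scalPair u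
    · rw [show (⟨(c, p), hcp⟩ : pairGroup F) = scalPair u * zPair F from Subtype.ext (Prod.ext
        (hcu.trans (mul_one _).symm) (Units.ext (by
          show p.val = (dgPair u u).val * (-1 : Matrix (Fin 2) (Fin 2) F)
          rw [← hcu, ht2, ht1, mul_neg, mul_one, ← neg_smul, h, neg_neg]))), map_mul,
        show f (scalPair u) = 1 from toG2_scalPair u, one_mul]
  have hPle : (P : Subgroup (G2 F)) ≤ f.range := fun g hg =>
    mem_range_of_commute h2 g (by rw [← hy0z]; exact (hcomm g hg).symm)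
  have hPeq : (P : Subgroup (G2 F)) = P1 := by
    refine le_antisymm ?_ hP
    have h1 : P1.relIndex (P : Subgroup (G2 F)) * (P : Subgroup (G2 F)).relIndex f.range =
        P1.relIndex f.range := Subgroup.relIndex_mul_relIndex _ _ _ hP hPle
    have h2' : ¬ 2 ∣ P1.relIndex (P : Subgroup (G2 F)) := fun h =>
      hidx1 (show 2 ∣ P1.relIndex f.range from h1 ▸ Dvd.dvd.mul_right h _)
    obtain ⟨n, hn⟩ := P.isPGroup'.index (P1.subgroupOf (P : Subgroup (G2 F)))
    rcases Nat.eq_zero_or_pos n with rfl | hn0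
    · rw [pow_zero] at hn
      exact Subgroup.relIndex_eq_one.1 hn
    · refine absurd ?_ h2'
      show 2 ∣ (P1.subgroupOf (P : Subgroup (G2 F))).index
      rw [hn]
      exact dvd_pow_self 2 (by omega)
  exact good_of_equiv ((MulEquiv.subgroupCongr hPeq.symm).trans (P.equiv Q)) hgoodP1 y

end CfsgLib.SylowAbel
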