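import Mathlib
import Cfsg.Prelude.Def_G2
import Cfsg.Agent.Lib.Aschbacher.MatrixUnits

/-!
Split octonions as pairs of `2 × 2` matrices; the centralizer of an involution in `G₂(q)`.
-/

set_option autoImplicit false

namespace CfsgLib.SylowAbel

open Matrix Cfsg.Lie

variable {F : Type*} [Field F]

/-- The first coordinate. -/
def octM (x : Fin 8 → F) : Matrix (Fin 2) (Fin 2) F := !![x 0, x 1; x 4, x 7]

/-- The second coordinate. -/
def octN (x : Fin 8 → F) : Matrix (Fin 2) (Fin 2) F := !![x 2, x 6; -x 3, x 5]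

/-- Octonions from pairs. -/
def ofPair (a b : Matrix (Fin 2) (Fin 2) F) : Fin 8 → F :=
  ![a 0 0, a 0 1, b 0 0, -b 1 0, a 1 0, b 1 1, b 0 1, a 1 1]

theorem octM_ofPair (a b : Matrix (Fin 2) (Fin 2) F) : octM (ofPair a b) = a := by
  ext i j; fin_cases i <;> fin_cases j <;> rfl

theorem octN_ofPair (a b : Matrix (Fin 2) (Fin 2) F) : octN (ofPair a b) = b := by
  ext i j; fin_cases i <;> fin_cases j <;> simp [octN, ofPair]

theorem ofPair_oct (x : Fin 8 → F) : ofPair (octM x) (octN x) = x := by
  funext i; fin_cases i <;> simp [ofPair, octM, octN]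

theorem oct_ext {x y : Fin 8 → F} (h1 : octM x = octM y) (h2 : octN x = octN y) : x = y := by
  rw [← ofPair_oct x, h1, h2, ofPair_oct]

theorem octM_mul (x y : Fin 8 → F) :
    octM (zornMul x y) = octM x * octM y + adjugate (octN y) * octN x := by
  ext i j
  fin_cases i <;> fin_cases j <;>
    simp [octM, octN, zornMul, dot3, cross3, Matrix.mul_apply, Fin.sum_univ_two, adjugate_fin_two] <;>
    ring

theorem octN_mul (x y : Fin 8 → F) :
    octN (zornMul x y) = octN y * octM x + octN x * adjugate (octM y) := by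
  ext i j
  fin_cases i <;> fin_cases j <;>
    simp [octM, octN, zornMul, dot3, cross3, Matrix.mul_apply, Fin.sum_univ_two, adjugate_fin_two] <;>
    ring

/-- Pairs with equal determinants. -/
def pairGroup (F : Type*) [Field F] : Subgroup (GL (Fin 2) F × GL (Fin 2) F) :=
  MonoidHom.eqLocus (GeneralLinearGroup.det.comp (MonoidHom.fst _ _))
    (GeneralLinearGroup.det.comp (MonoidHom.snd _ _))

theorem mem_pairGroup {c : GL (Fin 2) F × GL (Fin 2) F} :
    c ∈ pairGroup F ↔ GeneralLinearGroup.det c.1 = GeneralLinearGroup.det c.2 := Iff.rfl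

/-- The action of a pair. -/
def pairLin (c p c' : Matrix (Fin 2) (Fin 2) F) : (Fin 8 → F) →ₗ[F] (Fin 8 → F) where
  toFun x := ofPair (c * octM x * c') (p * octN x * c')
  map_add' x y := by
    apply oct_ext
    · rw [octM_ofPair]
      simp only [octM, ofPair]
      ext i j; fin_cases i <;> fin_cases j <;> simp [Matrix.mul_apply, Fin.sum_univ_two] <;> ring
    · rw [octN_ofPair]
      simp only [octN, ofPair]
      ext i j; fin_cases i <;> fin_cases j <;> simp [Matrix.mul_apply, Fin.sum_univ_two] <;> ring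
  map_smul' k x := by
    apply oct_ext
    · rw [octM_ofPair]
      simp only [octM, ofPair]
      ext i j; fin_cases i <;> fin_cases j <;> simp [Matrix.mul_apply, Fin.sum_univ_two] <;> ring
    · rw [octN_ofPair]
      simp only [octN, ofPair]
      ext i j; fin_cases i <;> fin_cases j <;> simp [Matrix.mul_apply, Fin.sum_univ_two] <;> ring

/-- The action on coordinates. -/
noncomputable def pairGL : pairGroup F →* GL (Fin 8) F :=
  MonoidHom.toHomUnits
    { toFun := fun h => LinearMap.toMatrix' (pairLin h.1.1.val h.1.2.val (h.1.1⁻¹).val)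
      map_one' := by
        rw [show pairLin ((1 : pairGroup F).1.1.val) _ _ = LinearMap.id from ?_]
        · exact LinearMap.toMatrix'_id
        refine LinearMap.ext fun x => ?_
        simp [pairLin, ofPair_oct]
      map_mul' := fun g h => by
        rw [← LinearMap.toMatrix'_comp]
        congr 1
        refine LinearMap.ext fun x => ?_
        simp [pairLin, octM_ofPair, octN_ofPair, mul_assoc] }

theorem pairGL_mulVec (h : pairGroup F) (x : Fin 8 → F) :
    (pairGL h).val *ᵥ x =
      ofPair (h.1.1.val * octM x * (h.1.1⁻¹).val) (h.1.2.val * octN x * (h.1.1⁻¹).val) :=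
  LinearMap.toMatrix'_mulVec _ _

theorem adjugate_units (c : GL (Fin 2) F) : adjugate c.val = c.val.det • (c⁻¹).val := by
  calc adjugate c.val = adjugate c.val * (c.val * (c⁻¹).val) := by rw [Units.mul_inv, mul_one]
    _ = c.val.det • (c⁻¹).val := by rw [← mul_assoc, adjugate_mul, smul_mul, one_mul]

theorem pairGL_mem (h : pairGroup F) : pairGL h ∈ G2 F := by
  intro x y
  show (pairGL h).val *ᵥ zornMul x y = zornMul ((pairGL h).val *ᵥ x) ((pairGL h).val *ᵥ y)
  obtain ⟨⟨c, p⟩, hdet⟩ := h
  have hd : c.val.det = p.val.det := congrArg Units.val hdet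
  have hci : (c⁻¹).val * c.val = 1 := c.inv_mul
  have hpi : (p⁻¹).val * p.val = 1 := p.inv_mul
  have hdi : c.val.det * ((c⁻¹).val.det) = 1 := by rw [← det_mul, c.mul_inv, det_one]
  have hadj : adjugate (c⁻¹).val = (c⁻¹).val.det • c.val := by
    rw [adjugate_units, inv_inv]
  simp only [pairGL_mulVec]
  apply oct_ext
  · rw [octM_ofPair, octM_mul x y, octM_mul (ofPair _ _), octM_ofPair, octM_ofPair, octN_ofPair,
      octN_ofPair, adjugate_mul_distrib, adjugate_mul_distrib, hadj, adjugate_units p]
    rw [mul_add, add_mul]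
    congr 1
    · simp only [mul_assoc]; rw [← mul_assoc (c⁻¹).val c.val, hci, one_mul]
    · simp only [smul_mul_assoc, mul_smul_comm, smul_smul]
      rw [show (p⁻¹).val = (p⁻¹).val from rfl]
      simp only [mul_assoc]
      rw [← mul_assoc (p⁻¹).val p.val, hpi, one_mul]
      simp only [← hd, mul_comm (c.val.det) _]
      rw [mul_comm] at hdi
      first
        | rw [hdi, one_smul]
        | (rw [mul_comm] at hdi; rw [hdi, one_smul])
  · rw [octN_ofPair, octN_mul x y, octN_mul (ofPair _ _), octM_ofPair, octM_ofPair, octN_ofPair,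
      octN_ofPair, adjugate_mul_distrib, adjugate_mul_distrib, hadj, adjugate_units c]
    rw [mul_add, add_mul]
    congr 1
    · simp only [mul_assoc]; rw [← mul_assoc (c⁻¹).val c.val, hci, one_mul]
    · simp only [smul_mul_assoc, mul_smul_comm, smul_smul]
      simp only [mul_assoc]
      rw [← mul_assoc (c⁻¹).val c.val, hci, one_mul]
      first
        | rw [hdi, one_smul]
        | (rw [mul_comm] at hdi; rw [hdi, one_smul])

/-- The map to `G₂`. -/
noncomputable def toG2 (F : Type*) [Field F] : pairGroup F →* G2 F :=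
  pairGL.codRestrict _ pairGL_mem

theorem scalar_of_central (c : Matrix (Fin 2) (Fin 2) F) (h : ∀ a, c * a = a * c) :
    ∃ s : F, c = s • 1 := by
  have h1 := congrFun (congrFun (h !![1, 0; 0, 0]) 0) 1
  have h2 := congrFun (congrFun (h !![1, 0; 0, 0]) 1) 0
  have h3 := congrFun (congrFun (h !![0, 1; 0, 0]) 0) 1
  simp [Matrix.mul_apply, Fin.sum_univ_two] at h1 h2 h3
  refine ⟨c 0 0, ?_⟩
  ext i j
  fin_cases i <;> fin_cases j <;> simp [h1.symm, h2, h3]

theorem toG2_eq_one {h : pairGroup F} (he : toG2 F h = 1) :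
    ∃ s : F, h.1.1.val = s • 1 ∧ h.1.2.val = h.1.1.val := by
  have key : ∀ a b : Matrix (Fin 2) (Fin 2) F,
      h.1.1.val * a * (h.1.1⁻¹).val = a ∧ h.1.2.val * b * (h.1.1⁻¹).val = b := by
    intro a b
    have hv : (pairGL h).val *ᵥ ofPair a b = ofPair a b := by
      rw [show pairGL h = 1 from congrArg Subtype.val he, Units.val_one, one_mulVec]
    rw [pairGL_mulVec, octM_ofPair, octN_ofPair] at hv
    exact ⟨by simpa [octM_ofPair] using congrArg octM hv,
      by simpa [octN_ofPair] using congrArg octN hv⟩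
  obtain ⟨s, hs⟩ := scalar_of_central h.1.1.val fun a => by
    calc h.1.1.val * a = h.1.1.val * a * (h.1.1⁻¹).val * h.1.1.val := by
          rw [mul_assoc, Units.inv_mul, mul_one]
      _ = a * h.1.1.val := by rw [(key a a).1]
  refine ⟨s, hs, ?_⟩
  calc h.1.2.val = h.1.2.val * 1 * (h.1.1⁻¹).val * h.1.1.val := by
        rw [mul_assoc, Units.inv_mul, mul_one, mul_one]
    _ = h.1.1.val := by rw [(key 1 1).2, one_mul]

/-- The pair of the involution. -/
def zPair (F : Type*) [Field F] : pairGroup F :=
  ⟨(1, -1), by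
    rw [mem_pairGroup]
    apply Units.ext
    show (1 : Matrix (Fin 2) (Fin 2) F).det = (-1 : Matrix (Fin 2) (Fin 2) F).det
    simp [det_fin_two]⟩

theorem zPair_mulVec (x : Fin 8 → F) :
    (pairGL (zPair F)).val *ᵥ x = ofPair (octM x) (-octN x) := by
  rw [pairGL_mulVec]
  simp [zPair]

/-- The centraliser of the involution consists of pairs. -/
theorem mem_range_of_commute [Fintype F] (h2 : (2 : F) ≠ 0) (g : G2 F)
    (hc : g * toG2 F (zPair F) = toG2 F (zPair F) * g) : g ∈ (toG2 F).range := by
  classical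
  set L : (Fin 8 → F) →ₗ[F] (Fin 8 → F) := Matrix.mulVecLin (g : GL (Fin 8) F).val with hL
  have hL' : ∀ x, L x = (g : GL (Fin 8) F).val *ᵥ x := fun _ => rfl
  have hmul : ∀ x y, L (zornMul x y) = zornMul (L x) (L y) := fun x y => g.2 x y
  have hinj : Function.Injective L := fun x y h => by
    have := congrArg ((g : GL (Fin 8) F)⁻¹.val *ᵥ ·) h
    simpa [hL', mulVec_mulVec] using this
  have hz : ∀ x, L (ofPair (octM x) (-octN x)) = ofPair (octM (L x)) (-octN (L x)) := fun x => by
    have := congrArg (fun u : G2 F => (u : GL (Fin 8) F).val *ᵥ x) hc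
    simp only [Subgroup.coe_mul, Units.val_mul, ← mulVec_mulVec] at this
    rw [show ((toG2 F (zPair F) : G2 F) : GL (Fin 8) F) = pairGL (zPair F) from rfl, zPair_mulVec,
      zPair_mulVec] at this
    exact this
  have hM : ∀ a, octN (L (ofPair a 0)) = 0 := fun a => by
    have h := congrArg octN (hz (ofPair a 0))
    rw [octM_ofPair, octN_ofPair, neg_zero, octN_ofPair] at h
    ext i j
    have h' := congrFun (congrFun h i) j
    rw [Matrix.neg_apply] at h'
    exact (mul_eq_zero.1 (show (2 : F) * octN (L (ofPair a 0)) i j = 0 by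
      linear_combination h')).resolve_left h2
  have hN : ∀ b, octM (L (ofPair 0 b)) = 0 := fun b => by
    have h := congrArg octM (hz (ofPair 0 b))
    rw [octM_ofPair, octN_ofPair, octM_ofPair,
      show ofPair (0 : Matrix (Fin 2) (Fin 2) F) (-b) = -ofPair 0 b from by
        apply oct_ext <;> ext i j <;> fin_cases i <;> fin_cases j <;> simp [octM, octN, ofPair],
      map_neg] at h
    ext i j
    have h' := congrFun (congrFun h i) j
    have hn : octM (-L (ofPair 0 b)) i j = -(octM (L (ofPair 0 b)) i j) := by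
      fin_cases i <;> fin_cases j <;> simp [octM]
    rw [hn] at h'
    exact (mul_eq_zero.1 (show (2 : F) * octM (L (ofPair 0 b)) i j = 0 by
      linear_combination -h')).resolve_left h2
  let A : Matrix (Fin 2) (Fin 2) F → Matrix (Fin 2) (Fin 2) F := fun a => octM (L (ofPair a 0))
  let B : Matrix (Fin 2) (Fin 2) F → Matrix (Fin 2) (Fin 2) F := fun b => octN (L (ofPair 0 b))
  have hA : ∀ a, L (ofPair a 0) = ofPair (A a) 0 := fun a =>
    oct_ext (by rw [octM_ofPair]) (by rw [octN_ofPair]; exact hM a)
  have hB : ∀ b, L (ofPair 0 b) = ofPair 0 (B b) := fun b =>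
    oct_ext (by rw [octM_ofPair]; exact hN b) (by rw [octN_ofPair])
  have hAmul : ∀ a a', A (a * a') = A a * A a' := fun a a' => by
    have h : zornMul (ofPair a 0) (ofPair a' 0) = ofPair (a * a') 0 := by
      apply oct_ext <;> simp [octM_mul, octN_mul, octM_ofPair, octN_ofPair]
    show octM (L (ofPair (a * a') 0)) = _
    rw [← h, hmul, hA, hA, octM_mul]
    simp [octM_ofPair, octN_ofPair]
  have hadd : ∀ a a', A (a + a') = A a + A a' := fun a a' => by
    have h : ofPair (a + a') 0 = ofPair a 0 + ofPair a' 0 := by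
      funext i; fin_cases i <;> simp [ofPair]
    show octM (L (ofPair (a + a') 0)) = octM (L _) + octM (L _)
    rw [h, map_add]
    ext i j; fin_cases i <;> fin_cases j <;> simp [octM]
  have hsmul : ∀ (k : F) a, A (k • a) = k • A a := fun k a => by
    have h : ofPair (k • a) 0 = k • ofPair a 0 := by
      funext i; fin_cases i <;> simp [ofPair]
    show octM (L (ofPair (k • a) 0)) = k • octM (L _)
    rw [h, map_smul]
    ext i j; fin_cases i <;> fin_cases j <;> simp [octM]
  let Al : Matrix (Fin 2) (Fin 2) F →ₗ[F] Matrix (Fin 2) (Fin 2) F :=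
    { toFun := A, map_add' := hadd, map_smul' := hsmul }
  have hAinj : Function.Injective Al := fun a a' h => by
    have h' : L (ofPair a 0) = L (ofPair a' 0) := by
      rw [hA, hA]; exact congrArg (ofPair · 0) h
    simpa [octM_ofPair] using congrArg octM (hinj h')
  have hAsurj : Function.Surjective Al := LinearMap.injective_iff_surjective.1 hAinj
  have hA1 : A 1 = 1 := by
    obtain ⟨u, hu⟩ := hAsurj 1
    have h := hAmul 1 u
    rw [one_mul, show A u = 1 from hu, mul_one] at h
    exact h.symm
  obtain ⟨c, hcc⟩ := CfsgLib.Asch.exists_conj_of_algEquiv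
    (AlgEquiv.ofBijective (AlgHom.ofLinearMap Al hA1 hAmul) ⟨hAinj, hAsurj⟩)
  have hAc : ∀ a, A a = c.val * a * (c⁻¹).val := hcc
  have hBA : ∀ a b, B (b * a) = B b * A a := fun a b => by
    have h : zornMul (ofPair a 0) (ofPair 0 b) = ofPair 0 (b * a) := by
      apply oct_ext <;> simp [octM_mul, octN_mul, octM_ofPair, octN_ofPair]
    show octN (L (ofPair 0 (b * a))) = _
    rw [← h, hmul, hA, hB, octN_mul]
    simp [octM_ofPair, octN_ofPair]
  have hdetB : (B 1).det = 1 := by
    have h : zornMul (ofPair (0 : Matrix (Fin 2) (Fin 2) F) 1) (ofPair 0 1) = ofPair 1 0 := by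
      apply oct_ext <;> simp [octM_mul, octN_mul, octM_ofPair, octN_ofPair]
    have h' := congrArg (fun t => octM (L t)) h
    simp only [hmul, hB, octM_mul, octM_ofPair, octN_ofPair, mul_zero, zero_add, adjugate_mul] at h'
    rw [show octM (L (ofPair 1 0)) = A 1 from rfl, hA1] at h'
    simpa using congrFun (congrFun h' 0) 0
  let p1 : GL (Fin 2) F := GeneralLinearGroup.mkOfDetNeZero (B 1) (by rw [hdetB]; exact one_ne_zero)
  refine ⟨⟨(c, p1 * c), ?_⟩, Subtype.ext (Units.ext (Matrix.ext_of_mulVec_single fun i => ?_))⟩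
  · rw [mem_pairGroup, map_mul]
    have : GeneralLinearGroup.det p1 = 1 := Units.ext ((GeneralLinearGroup.val_det_apply p1).trans hdetB)
    rw [this, one_mul]
  show (pairGL _).val *ᵥ _ = L _
  rw [pairGL_mulVec]
  generalize (Pi.single i 1 : Fin 8 → F) = x
  have hx : x = ofPair (octM x) 0 + ofPair 0 (octN x) := by
    funext j; fin_cases j <;> simp [ofPair, octM, octN]
  conv_rhs => rw [hx, map_add, hA, hB, hAc, ← one_mul (octN x), hBA, hAc]
  apply oct_ext
  · rw [octM_ofPair]
    ext i j; fin_cases i <;> fin_cases j <;> simp [octM, ofPair]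
  · rw [octN_ofPair]
    simp only [show ((p1 * c : GL (Fin 2) F)).val = B 1 * c.val from rfl, one_mul, mul_assoc]
    ext i j; fin_cases i <;> fin_cases j <;> simp [octN, ofPair]

end CfsgLib.SylowAbel
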