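import Cfsg.Agent.Lib.SylowAbel.GLTwo

/-!
Sylow `2`-subgroups of `GL_{2m}(q)` and their part of determinant one, `q ≡ 3 (mod 4)`.
-/

set_option autoImplicit false
set_option maxHeartbeats 400000

namespace CfsgLib.SylowAbel

open Matrix

variable {F : Type*} [Field F] {m : ℕ} (D : Subgroup (GL (Fin 2) F))
  (R : Subgroup (Equiv.Perm (Fin m)))

/-- One factor of the base. -/
noncomputable def inBase (i : Fin m) : D →* WGroup D R :=
  SemidirectProduct.inl.comp (MonoidHom.mulSingle (fun _ : Fin m => D) i)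

theorem det_inBase (i : Fin m) (d : D) : wreathDet D R (inBase D R i d) = detOn D d :=
  wreathDet_single D R i d

theorem inBase_comm (i j : Fin m) (d : D) :
    inBase D R i d * inBase D R j d = inBase D R j d * inBase D R i d := by
  unfold inBase
  rw [MonoidHom.comp_apply, MonoidHom.comp_apply, ← map_mul, ← map_mul]
  congr 1
  by_cases hij : i = j
  · subst hij; rfl
  · exact (Pi.mulSingle_commute (f := fun _ : Fin m => D) hij d d).eq

/-- One factor of the base, inside the kernel. -/
noncomputable def inBaseKer (i : Fin m) : (detOn D).ker →* (wreathDet D R).ker :=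
  ((inBase D R i).comp (detOn D).ker.subtype).codRestrict _ fun d => by
    rw [MonoidHom.mem_ker, MonoidHom.comp_apply, det_inBase]
    exact d.2

/-- The generators. -/
noncomputable def wreathGens (w : D) (S : Set (Equiv.Perm (Fin m))) : Set (WGroup D R) :=
  (Set.range fun x : Fin m × (detOn D).ker => inBase D R x.1 (x.2 : D)) ∪
    (Set.range fun i : Fin m => inBase D R i w) ∪
    SemidirectProduct.inr '' ((Subtype.val : R → Equiv.Perm (Fin m)) ⁻¹' S)

variable {D R} {w : D} {S : Set (Equiv.Perm (Fin m))}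

theorem closure_wreathGens (hD : SylData D w) (hR : Subgroup.closure S = R) :
    Subgroup.closure (wreathGens D R w S) = ⊤ := by
  rw [eq_top_iff]
  intro x _
  rw [← SemidirectProduct.inl_left_mul_inr_right x]
  refine Subgroup.mul_mem _ ?_ ?_
  · refine (Subgroup.pi_mem_of_mulSingle_mem
      (H := (Subgroup.closure (wreathGens D R w S)).comap SemidirectProduct.inl) x.left fun i => ?_)
    rw [Subgroup.mem_comap]
    show inBase D R i (x.left i) ∈ _
    generalize x.left i = d
    have hsplit : ∀ d' : D, detOn D d' = 1 →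
        inBase D R i d' ∈ Subgroup.closure (wreathGens D R w S) := fun d' h =>
      Subgroup.subset_closure (Or.inl (Or.inl ⟨(i, ⟨d', h⟩), rfl⟩))
    rcases hD.pm d with h | h
    · exact hsplit d h
    · rw [show d = d * w * w by rw [mul_assoc, hD.two, mul_one], map_mul]
      refine Subgroup.mul_mem _ (hsplit _ ?_) (Subgroup.subset_closure (Or.inl (Or.inr ⟨i, rfl⟩)))
      rw [map_mul, h, hD.det_w]
      simp
  · subst hR
    have h := Subgroup.closure_closure_coe_preimage (k := S)
    have hmem : x.right ∈ Subgroup.closure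
        ((Subtype.val : Subgroup.closure S → Equiv.Perm (Fin m)) ⁻¹' S) := h ▸ Subgroup.mem_top _
    have h2 := Subgroup.mem_map_of_mem
      (SemidirectProduct.inr : Subgroup.closure S →* WGroup D (Subgroup.closure S)) hmem
    rw [MonoidHom.map_closure] at h2
    exact Subgroup.closure_mono Set.subset_union_right h2

theorem inr_sq (hS : ∀ s ∈ S, s ^ 2 = 1) {r : R} (hr : (r : Equiv.Perm (Fin m)) ∈ S) :
    (SemidirectProduct.inr r : WGroup D R) * SemidirectProduct.inr r = 1 := by
  rw [← map_mul, show r * r = 1 from Subtype.ext (by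
    rw [Subgroup.coe_mul, ← pow_two]; exact hS _ hr), map_one]

theorem good_wreath (hD : SylData D w) (hR : Subgroup.closure S = R) (hS : ∀ s ∈ S, s ^ 2 = 1)
    (x : WGroup D R) : Good 2 x := by
  refine good_of_gens (closure_wreathGens hD hR) ?_ x
  rintro _ ((⟨⟨i, d⟩, rfl⟩ | ⟨i, rfl⟩) | ⟨r, hr, rfl⟩)
  · exact good_map ((inBase D R i).comp (detOn D).ker.subtype) (hD.good d)
  · exact good_of_pow_eq_one (by rw [← map_pow, pow_two, hD.two, map_one])
  · exact good_of_pow_eq_one (by rw [pow_two]; exact inr_sq hS hr)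

theorem good_wreath_ker (hD : SylData D w) (hR : Subgroup.closure S = R)
    (hS : ∀ s ∈ S, s ^ 2 = 1) (x : (wreathDet D R).ker) : Good 2 x := by
  have hA : ∀ (i : Fin m) (d : (detOn D).ker), wreathDet D R (inBase D R i (d : D)) = 1 :=
    fun i d => by rw [det_inBase]; exact d.2
  refine good_ker' (closure_wreathGens hD hR) ?_ ?_ ?_ x
  · rintro _ ((⟨⟨i, d⟩, rfl⟩ | ⟨i, rfl⟩) | ⟨r, hr, rfl⟩) h
    · exact good_map (inBaseKer D R i) (hD.good d)
    · refine good_of_pow_eq_one (Subtype.ext ?_)
      rw [SubgroupClass.coe_pow]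
      show inBase D R i w ^ 2 = 1
      rw [← map_pow, pow_two, hD.two, map_one]
    · refine good_of_pow_eq_one (Subtype.ext ?_)
      rw [SubgroupClass.coe_pow, pow_two]
      exact inr_sq hS hr
  · rintro _ ((⟨⟨i, d⟩, rfl⟩ | ⟨i, rfl⟩) | ⟨r, hr, rfl⟩) h
    · exact absurd (hA i d) h
    · rw [← map_mul, hD.two, map_one]
    · exact inr_sq hS hr
  · rintro s hs t ht h1 h2
    obtain ⟨i, rfl⟩ : ∃ i, inBase D R i w = s := by
      rcases hs with (⟨⟨i, d⟩, rfl⟩ | h) | ⟨r, -, rfl⟩
      · exact absurd (hA i d) h1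
      · exact h
      · exact absurd (wreathDet_inr D R r) h1
    obtain ⟨j, rfl⟩ : ∃ j, inBase D R j w = t := by
      rcases ht with (⟨⟨j, d⟩, rfl⟩ | h) | ⟨r, -, rfl⟩
      · exact absurd (hA j d) h2
      · exact h
      · exact absurd (wreathDet_inr D R r) h2
    refine ⟨inBase_comm D R i j w, ?_⟩
    rw [det_inBase, det_inBase, hD.det_w]
    simp

theorem range_wreathDet (hD : SylData D w) (hR : Subgroup.closure S = R) (hm : 1 ≤ m) :
    (wreathDet D R).range = Subgroup.zpowers (-1 : Fˣ) := by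
  refine le_antisymm ?_ (Subgroup.zpowers_le.2
    ⟨inBase D R ⟨0, hm⟩ w, (det_inBase D R _ w).trans hD.det_w⟩)
  rw [MonoidHom.range_eq_map, ← closure_wreathGens hD hR, MonoidHom.map_closure, Subgroup.closure_le]
  rintro _ ⟨_, ((⟨⟨i, d⟩, rfl⟩ | ⟨i, rfl⟩) | ⟨r, -, rfl⟩), rfl⟩
  · rw [det_inBase, show detOn D (d : D) = 1 from d.2]; exact Subgroup.one_mem _
  · rw [det_inBase, hD.det_w]; exact Subgroup.mem_zpowers _
  · rw [wreathDet_inr]; exact Subgroup.one_mem _

variable [Fintype F]

theorem exists_gl_sylow (h4 : Fintype.card F % 4 = 3) (hm : 1 ≤ m) :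
    ∃ (D : Subgroup (GL (Fin 2) F)) (R : Subgroup (Equiv.Perm (Fin m))),
      Nat.card (WGroup D R) = 2 ^ (Nat.card (GL (Fin (2 * m)) F)).factorization 2 ∧
      (∀ x : WGroup D R, Good 2 x) ∧ (wreathDet D R).ker.index = 2 ∧
      ∀ x : (wreathDet D R).ker, Good 2 x := by
  classical
  haveI : Fact (Nat.Prime 2) := ⟨Nat.prime_two⟩
  obtain ⟨D, w, hcard, hD⟩ := exists_sylData (F := F) h4
  obtain ⟨S, hS⟩ := exists_gens (p := 2) m
  refine ⟨D, Subgroup.closure S, ?_, good_wreath hD rfl hS.pow, ?_, good_wreath_ker hD rfl hS.pow⟩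
  · rw [SemidirectProduct.card, Nat.card_fun, hcard, hS.card, factorization_GL_two h4,
      factorization_GL_even h4, Nat.card_fin, ← pow_mul, ← pow_add, mul_comm m]
  · rw [Subgroup.index_ker, range_wreathDet hD rfl hm, card_pm h4]

end CfsgLib.SylowAbel
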