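import Mathlib.GroupTheory.Abelianization.Defs
import Mathlib.GroupTheory.Sylow
import Mathlib.GroupTheory.SemidirectProduct

/-!
Groups generated by elements whose `p`-th power lies in the derived subgroup.
-/

set_option autoImplicit false

namespace CfsgLib.SylowAbel

variable {G H : Type*} [Group G] [Group H]

/-- The `p`-th power lies in the derived subgroup. -/
def Good (p : ℕ) (x : G) : Prop := x ^ p ∈ commutator G

/-- The elements whose `p`-th power lies in the derived subgroup. -/
def goodSubgroup (p : ℕ) (G : Type*) [Group G] : Subgroup G :=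
  ((powMonoidHom p : Abelianization G →* Abelianization G).comp Abelianization.of).ker

theorem mem_goodSubgroup {p : ℕ} {x : G} : x ∈ goodSubgroup p G ↔ Good p x := by
  rw [goodSubgroup, MonoidHom.mem_ker, MonoidHom.comp_apply, powMonoidHom_apply, ← map_pow,
    ← MonoidHom.mem_ker, Abelianization.ker_of]
  rfl

theorem good_of_pow_eq_one {p : ℕ} {x : G} (h : x ^ p = 1) : Good p x := by
  rw [Good, h]; exact Subgroup.one_mem _

theorem good_map {p : ℕ} (f : G →* H) {x : G} (h : Good p x) : Good p (f x) := by
  rw [Good, ← map_pow]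
  have h1 : (commutator G).map f ≤ commutator H := by
    rw [commutator_def, Subgroup.map_commutator, commutator_def]
    exact Subgroup.commutator_mono le_top le_top
  exact h1 ⟨_, h, rfl⟩

theorem good_of_gens {p : ℕ} {S : Set G} (hS : Subgroup.closure S = ⊤) (h : ∀ s ∈ S, Good p s)
    (x : G) : Good p x := by
  rw [← mem_goodSubgroup]
  exact (Subgroup.closure_le _).2 (fun s hs => mem_goodSubgroup.2 (h s hs))
    (hS ▸ Subgroup.mem_top x)

theorem good_of_equiv {p : ℕ} (e : G ≃* H) (h : ∀ x : G, Good p x) (y : H) : Good p y := by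
  rw [← e.apply_symm_apply y]
  exact good_map e.toMonoidHom (h _)

/-- It is enough to treat one Sylow subgroup. -/
theorem good_sylow {p : ℕ} [Fact p.Prime] [Finite G] {P : Subgroup G}
    (hcard : Nat.card P = p ^ (Nat.card G).factorization p) (h : ∀ x : P, Good p x)
    (Q : Sylow p G) (y : (Q : Subgroup G)) : Good p y :=
  good_of_equiv (Sylow.equiv (Sylow.ofCard P hcard) Q) h y

/-- It is enough that a Sylow subgroup is the image of a group. -/
theorem good_sylow_of_hom {p : ℕ} [Fact p.Prime] [Finite G] (f : H →* G) (hf : Function.Injective f)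
    (hcard : Nat.card H = p ^ (Nat.card G).factorization p) (h : ∀ x : H, Good p x)
    (Q : Sylow p G) (y : (Q : Subgroup G)) : Good p y :=
  good_sylow (P := f.range) (by rw [← Nat.card_congr (MonoidHom.ofInjective hf).toEquiv, hcard])
    (fun x => good_of_equiv (MonoidHom.ofInjective hf) h x) Q y

/-- A semidirect product of good generators is good. -/
theorem good_semidirect {N K : Type*} [Group N] [Group K] {φ : K →* MulAut N} {p : ℕ}
    (hN : ∀ n : N, Good p n) (hK : ∀ k : K, Good p k) (x : N ⋊[φ] K) : Good p x := by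
  rw [← mem_goodSubgroup, ← SemidirectProduct.inl_left_mul_inr_right x]
  exact Subgroup.mul_mem _ (mem_goodSubgroup.2 (good_map _ (hN _)))
    (mem_goodSubgroup.2 (good_map _ (hK _)))

/-- The kernel of a hom with at most two values on generators: the even generators are good in the
kernel, the odd ones are commuting involutions. -/
theorem good_ker' {A : Type*} [Group A] {χ : G →* A} {S : Set G} (hS : Subgroup.closure S = ⊤)
    (heven : ∀ s ∈ S, ∀ h : χ s = 1, Good 2 (⟨s, h⟩ : χ.ker))
    (hinv : ∀ s ∈ S, χ s ≠ 1 → s * s = 1)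
    (hc : ∀ s ∈ S, ∀ t ∈ S, χ s ≠ 1 → χ t ≠ 1 → s * t = t * s ∧ χ s * χ t = 1)
    (x : χ.ker) : Good 2 x := by
  by_cases hall : ∀ s ∈ S, χ s = 1
  · have htop : χ.ker = ⊤ := by
      rw [eq_top_iff, ← hS, Subgroup.closure_le]
      exact fun s hs => MonoidHom.mem_ker.2 (hall s hs)
    let f : χ.ker →* G := χ.ker.subtype
    refine good_of_equiv ((Subgroup.topEquiv (G := G)).symm.trans (MulEquiv.subgroupCongr htop.symm))
      (good_of_gens hS fun s hs => ?_) x
    exact good_map f (heven s hs (hall s hs))
  push Not at hall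
  obtain ⟨t, ht, ht1⟩ := hall
  have htt := hinv t ht ht1
  set U := (goodSubgroup 2 χ.ker).map χ.ker.subtype with hU
  have hUk : ∀ u ∈ U, χ u = 1 := by
    rintro _ ⟨u, -, rfl⟩; exact u.2
  have hUn : ∀ g : G, ∀ u ∈ U, g * u * g⁻¹ ∈ U := by
    rintro g _ ⟨u, hu, rfl⟩
    exact ⟨MulAut.conjNormal (H := χ.ker) g u,
      mem_goodSubgroup.2 (good_map (MulAut.conjNormal (H := χ.ker) g).toMonoidHom
        (mem_goodSubgroup.1 hu)), MulAut.conjNormal_apply g u⟩
  have htinv : t⁻¹ = t := inv_eq_of_mul_eq_one_right htt
  have hinvU : ∀ y : G, χ y = 1 → y * y = 1 → y ∈ U := fun y hy hyy =>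
    ⟨⟨y, hy⟩, mem_goodSubgroup.2 (good_of_pow_eq_one (Subtype.ext (by
      rw [SubgroupClass.coe_pow, pow_two]; exact hyy))), rfl⟩
  have htU : ∀ u ∈ U, t * u * t ∈ U := fun u hu => by
    have := hUn t u hu
    rwa [htinv] at this
  have key : ∀ g : G, g ∈ U ∨ g * t ∈ U := by
    intro g
    have hg : g ∈ Subgroup.closure S := hS ▸ Subgroup.mem_top g
    induction hg using Subgroup.closure_induction with
    | mem s hs =>
      by_cases h : χ s = 1
      · exact Or.inl ⟨⟨s, h⟩, mem_goodSubgroup.2 (heven s hs h), rfl⟩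
      · refine Or.inr (hinvU _ ?_ ?_)
        · rw [map_mul]; exact (hc s hs t ht h ht1).2
        · calc s * t * (s * t) = s * (t * s) * t := by group
            _ = s * (s * t) * t := by rw [(hc s hs t ht h ht1).1]
            _ = s * s * (t * t) := by group
            _ = 1 := by rw [hinv s hs h, htt, one_mul]
    | one => exact Or.inl (Subgroup.one_mem _)
    | mul a b _ _ ha hb =>
      rcases ha with ha | ha <;> rcases hb with hb | hb
      · exact Or.inl (Subgroup.mul_mem _ ha hb)
      · exact Or.inr (by rw [mul_assoc]; exact Subgroup.mul_mem _ ha hb)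
      · refine Or.inr ?_
        have := Subgroup.mul_mem _ ha (htU b hb)
        rwa [show a * t * (t * b * t) = a * (t * t) * b * t by group, htt, mul_one] at this
      · refine Or.inl ?_
        have := Subgroup.mul_mem _ ha (htU _ hb)
        rwa [show a * t * (t * (b * t) * t) = a * (t * t) * b * (t * t) by group, htt, mul_one,
          mul_one] at this
    | inv a _ ha =>
      rcases ha with ha | ha
      · exact Or.inl (Subgroup.inv_mem _ ha)
      · refine Or.inr ?_
        have := htU _ (Subgroup.inv_mem _ ha)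
        rwa [mul_inv_rev, htinv, show t * (t * a⁻¹) * t = (t * t) * a⁻¹ * t by group, htt,
          one_mul] at this
  rcases key x with h | h
  · obtain ⟨u, hu, hux⟩ := h
    exact Subtype.ext hux ▸ mem_goodSubgroup.1 hu
  · have := hUk _ h
    rw [map_mul, show χ (x : G) = 1 from x.2, one_mul] at this
    exact absurd this ht1

/-- The kernel of a sign on a group generated by involutions whose odd members commute. -/
theorem good_ker {χ : G →* ℤˣ} {S : Set G} (hS : Subgroup.closure S = ⊤)
    (hinv : ∀ s ∈ S, s * s = 1) (hc : ∀ s ∈ S, ∀ t ∈ S, χ s ≠ 1 → χ t ≠ 1 → s * t = t * s)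
    (x : χ.ker) : Good 2 x := by
  refine good_ker' hS (fun s hs h => good_of_pow_eq_one (Subtype.ext ?_)) (fun s hs _ => hinv s hs)
    (fun s hs t ht h1 h2 => ⟨hc s hs t ht h1 h2, ?_⟩) x
  · rw [SubgroupClass.coe_pow, pow_two]; exact hinv s hs
  · rw [(Int.units_eq_one_or (χ s)).resolve_left h1, (Int.units_eq_one_or (χ t)).resolve_left h2]
    simp

end CfsgLib.SylowAbel
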