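import Cfsg.Agent.Lib.SylowAbel.Good
import Mathlib.GroupTheory.SpecificGroups.Alternating

/-!
Abstract ingredients for Sylow `2`-subgroups of orthogonal groups: the kernel of a map with two
classes of commuting involutions, surjectivity on Sylow subgroups, even permutations.
-/

set_option autoImplicit false

namespace CfsgLib.SylowAbel

variable {G A : Type*} [Group G] [Group A]

/-- The kernel of a hom on a group generated by involutions taking two independent values, such that
involutions of the same value are linked by commuting ones. -/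
theorem good_ker_of_classes {χ : G →* A} {S : Set G} (hS : Subgroup.closure S = ⊤) {a b : A}
    (ha : a ≠ 1) (hb : b ≠ 1) (hab : a * b ≠ 1)
    (hval : ∀ s ∈ S, χ s = a ∨ χ s = b) (hinv : ∀ s ∈ S, s * s = 1)
    (hlink : ∀ s ∈ S, ∀ t ∈ S, χ s = χ t →
      ∃ u ∈ S, χ u = χ s ∧ s * u = u * s ∧ u * t = t * u)
    {σ τ : G} (hσS : σ ∈ S) (hσ : χ σ = a) (hτS : τ ∈ S) (hτ : χ τ = b) (hστ : σ * τ = τ * σ)
    (x : χ.ker) : Good 2 x := by
  set U := (goodSubgroup 2 χ.ker).map χ.ker.subtype with hU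
  haveI hUn : U.Normal := ⟨fun u hu g => by
    obtain ⟨u, hu, rfl⟩ := hu
    exact ⟨MulAut.conjNormal (H := χ.ker) g u,
      mem_goodSubgroup.2 (good_map (MulAut.conjNormal (H := χ.ker) g).toMonoidHom
        (mem_goodSubgroup.1 hu)), MulAut.conjNormal_apply g u⟩⟩
  set π := QuotientGroup.mk' U with hπ
  have hstep : ∀ s ∈ S, ∀ t ∈ S, χ s = χ t → s * t = t * s → π s = π t := by
    intro s hs t ht h hc
    rw [hπ, QuotientGroup.mk'_apply, QuotientGroup.mk'_apply, QuotientGroup.eq]
    have hk : s⁻¹ * t ∈ χ.ker := by rw [MonoidHom.mem_ker, map_mul, map_inv, h, inv_mul_cancel]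
    refine ⟨⟨_, hk⟩, mem_goodSubgroup.2 (good_of_pow_eq_one (Subtype.ext ?_)), rfl⟩
    show (s⁻¹ * t) ^ 2 = 1
    rw [inv_eq_of_mul_eq_one_right (hinv s hs), pow_two]
    calc s * t * (s * t) = s * (t * s) * t := by group
      _ = s * (s * t) * t := by rw [hc]
      _ = s * s * (t * t) := by group
      _ = 1 := by rw [hinv s hs, hinv t ht, one_mul]
  have hpi : ∀ s ∈ S, (χ s = a ∧ π s = π σ) ∨ (χ s = b ∧ π s = π τ) := by
    intro s hs
    rcases hval s hs with h | h
    · obtain ⟨u, hu, hue, h1, h2⟩ := hlink s hs σ hσS (h.trans hσ.symm)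
      exact Or.inl ⟨h, (hstep s hs u hu hue.symm h1).trans
        (hstep u hu σ hσS (hue.trans (h.trans hσ.symm)) h2)⟩
    · obtain ⟨u, hu, hue, h1, h2⟩ := hlink s hs τ hτS (h.trans hτ.symm)
      exact Or.inr ⟨h, (hstep s hs u hu hue.symm h1).trans
        (hstep u hu τ hτS (hue.trans (h.trans hτ.symm)) h2)⟩
  have aa : a * a = 1 := by rw [← hσ, ← map_mul, hinv σ hσS, map_one]
  have bb : b * b = 1 := by rw [← hτ, ← map_mul, hinv τ hτS, map_one]
  have ba : b * a = a * b := by rw [← hσ, ← hτ, ← map_mul, ← map_mul, hστ]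
  have pp : π σ * π σ = 1 := by rw [← map_mul, hinv σ hσS, map_one]
  have qq : π τ * π τ = 1 := by rw [← map_mul, hinv τ hτS, map_one]
  have qp : π τ * π σ = π σ * π τ := by rw [← map_mul, ← map_mul, hστ]
  have key : ∀ g : G, (χ g = 1 ∧ π g = 1) ∨ (χ g = a ∧ π g = π σ) ∨ (χ g = b ∧ π g = π τ) ∨
      (χ g = a * b ∧ π g = π σ * π τ) := by
    intro g
    have hg : g ∈ Subgroup.closure S := hS ▸ Subgroup.mem_top g
    induction hg using Subgroup.closure_induction with
    | mem s hs =>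
      rcases hpi s hs with h | h
      · exact Or.inr (Or.inl h)
      · exact Or.inr (Or.inr (Or.inl h))
    | one => exact Or.inl ⟨map_one χ, map_one π⟩
    | mul g h _ _ hg hh =>
      have e1 : a * (a * b) = b := by rw [← mul_assoc, aa, one_mul]
      have e2 : b * (a * b) = a := by rw [← mul_assoc, ba, mul_assoc, bb, mul_one]
      have e3 : a * b * a = b := by rw [mul_assoc, ba, e1]
      have e4 : a * b * b = a := by rw [mul_assoc, bb, mul_one]
      have e5 : a * b * (a * b) = 1 := by rw [← mul_assoc, e3, bb]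
      have f1 : π σ * (π σ * π τ) = π τ := by rw [← mul_assoc, pp, one_mul]
      have f2 : π τ * (π σ * π τ) = π σ := by rw [← mul_assoc, qp, mul_assoc, qq, mul_one]
      have f3 : π σ * π τ * π σ = π τ := by rw [mul_assoc, qp, f1]
      have f4 : π σ * π τ * π τ = π σ := by rw [mul_assoc, qq, mul_one]
      have f5 : π σ * π τ * (π σ * π τ) = 1 := by rw [← mul_assoc, f3, qq]
      rcases hg with ⟨g1, g2⟩ | ⟨g1, g2⟩ | ⟨g1, g2⟩ | ⟨g1, g2⟩ <;>
        rcases hh with ⟨h1, h2⟩ | ⟨h1, h2⟩ | ⟨h1, h2⟩ | ⟨h1, h2⟩ <;>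
        simp only [map_mul, g1, g2, h1, h2, one_mul, mul_one, aa, bb, ba, pp, qq, qp, e1, e2, e3,
          e4, e5, f1, f2, f3, f4, f5, and_self, true_or, or_true]
    | inv g _ hg =>
      have ia : a⁻¹ = a := inv_eq_of_mul_eq_one_right aa
      have ib : b⁻¹ = b := inv_eq_of_mul_eq_one_right bb
      have ip : (π σ)⁻¹ = π σ := inv_eq_of_mul_eq_one_right pp
      have iq : (π τ)⁻¹ = π τ := inv_eq_of_mul_eq_one_right qq
      rcases hg with ⟨g1, g2⟩ | ⟨g1, g2⟩ | ⟨g1, g2⟩ | ⟨g1, g2⟩ <;>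
        simp only [map_inv, g1, g2, inv_one, _root_.mul_inv_rev, ia, ib, ip, iq, ba, qp,
          and_self, true_or, or_true]
  have hx : χ (x : G) = 1 := x.2
  rcases key (x : G) with ⟨-, h⟩ | ⟨h, -⟩ | ⟨h, -⟩ | ⟨h, -⟩
  · rw [hπ, QuotientGroup.mk'_apply, QuotientGroup.eq_one_iff] at h
    obtain ⟨u, hu, hux⟩ := h
    exact Subtype.ext hux ▸ mem_goodSubgroup.1 hu
  · exact absurd (h.symm.trans hx) ha
  · exact absurd (h.symm.trans hx) hb
  · exact absurd (h.symm.trans hx) hab

/-- A hom into a group of exponent `2` has the same image on a Sylow `2`-subgroup. -/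
theorem exists_mem_sylow_map_eq [Finite G] (f : G →* A) (hsq : ∀ g, f g * f g = 1)
    (P : Sylow 2 G) (g : G) : ∃ p ∈ (P : Subgroup G), f p = f g := by
  haveI : Fact (Nat.Prime 2) := ⟨Nat.prime_two⟩
  have hp : IsPGroup 2 f.range := fun ⟨z, y, hy⟩ => ⟨1, Subtype.ext (by
    rw [SubgroupClass.coe_pow, pow_one, pow_two, OneMemClass.coe_one]
    show z * z = 1
    rw [← hy]; exact hsq y)⟩
  set P' := P.mapSurjective f.rangeRestrict_surjective
  have htop : (⊤ : Subgroup f.range) = (P' : Subgroup f.range) :=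
    P'.is_maximal' (hp.to_subgroup ⊤) le_top
  have hm : f.rangeRestrict g ∈ (P' : Subgroup f.range) := htop ▸ Subgroup.mem_top _
  obtain ⟨p, hpP, he⟩ := hm
  exact ⟨p, hpP, congrArg Subtype.val he⟩

/-- A hom from a symmetric group to `ℤˣ` kills the even permutations. -/
theorem map_eq_one_of_sign {α : Type*} [Fintype α] [DecidableEq α] (f : Equiv.Perm α →* ℤˣ)
    {σ : Equiv.Perm α} (h : Equiv.Perm.sign σ = 1) : f σ = 1 := by
  have hle : alternatingGroup α ≤ f.ker := by
    rw [← Equiv.Perm.closure_three_cycles_eq_alternating, Subgroup.closure_le]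
    intro c hc
    have h3 : c ^ 3 = 1 := by
      rw [← (show c.IsThreeCycle from hc).orderOf]; exact pow_orderOf_eq_one c
    have h' := congrArg f h3
    rw [map_pow, map_one, pow_succ, Int.units_sq, one_mul] at h'
    exact h'
  exact hle (Equiv.Perm.mem_alternatingGroup.2 h)

/-- Reading off the `2`-part of the index. -/
theorem eq_two_pow_of_mul {a c b : ℕ} {V : ℕ} (h1 : a * c = 2 ^ V) (hV : (b * c).factorization 2 = V)
    (hb : b ≠ 0) : a = 2 ^ b.factorization 2 := by
  obtain ⟨i, hi, rfl⟩ := (Nat.dvd_prime_pow Nat.prime_two).1 (Dvd.intro c h1)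
  have hc : c = 2 ^ (V - i) := by
    rw [show V = i + (V - i) by omega, pow_add] at h1
    exact Nat.eq_of_mul_eq_mul_left (Nat.two_pow_pos i) h1
  subst hc
  rw [Nat.factorization_mul hb (Nat.two_pow_pos _).ne', Finsupp.add_apply,
    Nat.prime_two.factorization_pow, Finsupp.single_eq_same] at hV
  congr 1
  omega

end CfsgLib.SylowAbel
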