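import Cfsg.Agent.Lib.SylowAbel.OrthModel

/-!
The kernel of `(det, θ)` on the monomial `2`-group is good, and is Sylow in `Ω`.
-/

set_option autoImplicit false
set_option maxHeartbeats 800000

namespace CfsgLib.SylowAbel

open Matrix Cfsg CfsgLib.OrthSpinor

variable {F : Type*} [Field F] [Fintype F] {k r : ℕ}

theorem neg_one_ne_one_units (h2 : (2 : F) ≠ 0) : (-1 : Fˣ) ≠ 1 := fun h => h2 (by
  have := congrArg Units.val h
  rw [Units.val_neg, Units.val_one] at this
  linear_combination -this)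

theorem chi_plane_surj (h2 : (2 : F) ≠ 0) (d : Fin r → F) (i : Fin k) (z : ℤˣ) :
    ∃ g : ↥(isometryGroup F ⇑(planeQ F)),
      chi (inPlane d h2 i g) = ((-1 : Fˣ), z) := by
  classical
  obtain ⟨ν, hν, hns⟩ := exists_nonsquare' h2
  obtain ⟨s, t, hst⟩ := binary_universal h2 (one_ne_zero (α := F)) one_ne_zero
    (if z = -1 then 1 else ν)
  have hu : planeQ F ![s, t] = if z = -1 then 1 else ν := by
    rw [← hst]
    simp [planeQ, QuadraticMap.weightedSumSquares_apply, Fin.sum_univ_two, pow_two]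
  have hne : planeQ F ![s, t] ≠ 0 := by rw [hu]; split_ifs <;> simp [hν]
  refine ⟨reflection hne, Prod.ext ?_ ?_⟩
  · show detHom _ = _
    rw [det_inPlane, detHom_reflection]
  · show theta 1 _ = z
    rw [inPlane_reflection, theta_reflection h2 one_ne_zero, extVec_form, one_mul, hu]
    rcases Int.units_eq_one_or z with rfl | rfl
    · rw [if_neg (show (1 : ℤˣ) ≠ -1 by decide), if_neg hns]
    · rw [if_pos rfl, if_pos IsSquare.one]

variable (h2 : (2 : F) ≠ 0)
variable (d : Fin r → F)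

/-- The two classes. -/
def classVal (z : ℤˣ) : Fˣ × ℤˣ := ((-1 : Fˣ), z)

include h2 in
theorem classVal_facts : classVal (F := F) (-1) ≠ 1 ∧ classVal (F := F) 1 ≠ 1 ∧
    classVal (F := F) (-1) * classVal 1 ≠ 1 := by
  refine ⟨fun h => ?_, fun h => ?_, fun h => ?_⟩
  · exact neg_one_ne_one_units h2 (congrArg Prod.fst h)
  · exact neg_one_ne_one_units h2 (congrArg Prod.fst h)
  · have := congrArg Prod.snd h
    simp [classVal] at this

variable (P : Sylow 2 ↥(isometryGroup F ⇑(planeQ F)))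

/-- The `2`-group in `GL₂`. -/
def planeSyl : Subgroup (GL (Fin 2) F) :=
  (P : Subgroup ↥(isometryGroup F ⇑(planeQ F))).map (isometryGroup F ⇑(planeQ F)).subtype

include h2 in
theorem planeSyl_gram : ∀ g ∈ planeSyl P, g.valᵀ * g.val = 1 := by
  rintro _ ⟨p, -, rfl⟩
  exact plane_gram h2 p

theorem card_planeSyl : Nat.card (planeSyl P) =
    2 ^ (Nat.card ↥(isometryGroup F ⇑(planeQ F))).factorization 2 := by
  rw [planeSyl, Nat.card_congr ((P : Subgroup ↥(isometryGroup F ⇑(planeQ F))).equivMapOfInjective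
    (isometryGroup F ⇑(planeQ F)).subtype (Subgroup.subtype_injective _)).toEquiv.symm,
    P.card_eq_multiplicity]

variable (R : Sylow 2 (Equiv.Perm (Fin k)))

/-- `(det, θ)` on the monomial group. -/
noncomputable def chiH : OGroup (planeSyl P) (R : Subgroup (Equiv.Perm (Fin k))) r →* Fˣ × ℤˣ :=
  chi.comp (toModel d (planeSyl P) (R : Subgroup (Equiv.Perm (Fin k))) (planeSyl_gram h2 P))

theorem chiH_single (i : Fin k) (p : ↥(isometryGroup F ⇑(planeQ F)))
    (hp : p ∈ (P : Subgroup ↥(isometryGroup F ⇑(planeQ F)))) :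
    chiH h2 d P R (SemidirectProduct.inl (Pi.mulSingle i ⟨(p : GL (Fin 2) F), p, hp, rfl⟩), 1) =
      chi (inPlane d h2 i p) := by
  refine congrArg chi (Subtype.ext ?_)
  show sumGL F _ _ (wreathGL _ _ _, diagFin F r _) = sumGL F _ _ (blockGL F k _, 1)
  congr 1
  refine Prod.ext ?_ ?_
  · show wreathGL _ _ (SemidirectProduct.inl _) = blockGL F k _
    rw [wreathGL, SemidirectProduct.lift_inl, MonoidHom.comp_apply]
    congr 1
    funext j
    by_cases h : j = i
    · subst h
      simp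
    · simp [Pi.mulSingle_eq_of_ne h]
  · show diagFin F r (fun j => ((1 : Fin r → Subgroup.zpowers (-1 : Fˣ)) j : Fˣ)) = 1
    exact map_one (diagFin F r)

theorem chiH_perm (σ : (R : Subgroup (Equiv.Perm (Fin k)))) :
    chiH h2 d P R (SemidirectProduct.inr σ, 1) = 1 := by
  let permO : Equiv.Perm (Fin 2 × Fin k) →* ↥(isometryGroup F ⇑(modelQ k d)) :=
    ((sumGL F (Fin 2 × Fin k) (Fin r)).comp ((MonoidHom.toHomUnits
      { toFun := fun τ : Equiv.Perm (Fin 2 × Fin k) => Equiv.Perm.permMatrix F τ⁻¹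
        map_one' := by rw [inv_one]; exact Matrix.permMatrix_one
        map_mul' := fun a b => by rw [← Matrix.permMatrix_mul, _root_.mul_inv_rev] }).prod 1)).codRestrict _
      fun τ => sumGL_mem d _ _ (perm_gram (F := F) τ⁻¹) (by simp)
  set τ : Equiv.Perm (Fin 2 × Fin k) := Equiv.prodCongrRight fun _ : Fin 2 => (σ : Equiv.Perm (Fin k))
    with hτ
  have hsgn : Equiv.Perm.sign τ = 1 := by
    rw [hτ, Equiv.Perm.sign_prodCongrRight, Finset.prod_const, Finset.card_univ, Fintype.card_fin,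
      Int.units_sq]
  have he : toModel d (planeSyl P) (R : Subgroup (Equiv.Perm (Fin k))) (planeSyl_gram h2 P)
      (SemidirectProduct.inr σ, 1) = permO τ := by
    apply Subtype.ext
    show sumGL F _ _ (wreathGL _ _ (SemidirectProduct.inr σ), diagFin F r _) = sumGL F _ _ (_, 1)
    congr 1
    refine Prod.ext ?_ ?_
    · show wreathGL _ _ (SemidirectProduct.inr σ) = _
      rw [wreathGL, SemidirectProduct.lift_inr]
      exact Units.ext rfl
    · show diagFin F r (fun j => ((1 : Fin r → Subgroup.zpowers (-1 : Fˣ)) j : Fˣ)) = 1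
      exact map_one (diagFin F r)
  refine Prod.ext ?_ ?_
  · show detHom _ = (1 : Fˣ)
    rw [he]
    show GeneralLinearGroup.det (sumGL F _ _ (_, 1)) = 1
    rw [det_sumGL, map_one, mul_one]
    apply Units.ext
    show Matrix.det (Equiv.Perm.permMatrix F τ⁻¹) = 1
    rw [Matrix.det_permutation, Equiv.Perm.sign_inv, hsgn]
    simp
  · show theta 1 _ = (1 : ℤˣ)
    rw [he]
    exact map_eq_one_of_sign ((theta 1).comp permO) hsgn

variable {d} (hd : ∀ j, d j ≠ 0)

include hd in
theorem modelW_ne : ∀ z, modelW k d z ≠ 0 := by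
  rintro (z | z)
  · exact one_ne_zero
  · exact hd z

include h2 hd in
theorem exists_class (i : Fin k) (z : ℤˣ) :
    ∃ c : planeSyl P, GeneralLinearGroup.det (c : GL (Fin 2) F) = -1 ∧
      chiH h2 d P R (SemidirectProduct.inl (Pi.mulSingle i c), 1) = classVal z := by
  obtain ⟨g, hg⟩ := chi_plane_surj h2 d i z
  obtain ⟨p, hp, he⟩ := exists_mem_sylow_map_eq (chi.comp (inPlane d h2 i))
    (fun y => chi_mul_self h2 (nondegenerate_weighted h2 (modelW_ne hd)) _) P g
  rw [MonoidHom.comp_apply, MonoidHom.comp_apply, hg] at he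
  refine ⟨⟨(p : GL (Fin 2) F), p, hp, rfl⟩, ?_, (chiH_single h2 d P R i p hp).trans he⟩
  have := congrArg Prod.fst he
  rwa [show (chi (inPlane d h2 i p)).1 = detHom (inPlane d h2 i p) from rfl, det_inPlane] at this

include h2 hd in
theorem good_base (hk : 2 ≤ k)
    (x : ((chiH h2 d P R).comp ((SemidirectProduct.inl :
      (Fin k → planeSyl P) →* WGroup (planeSyl P) (R : Subgroup (Equiv.Perm (Fin k)))).prodMap
        (MonoidHom.id (Fin r → Subgroup.zpowers (-1 : Fˣ))))).ker) : Good 2 x := by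
  classical
  revert x
  set χ := (chiH h2 d P R).comp ((SemidirectProduct.inl :
      (Fin k → planeSyl P) →* WGroup (planeSyl P) (R : Subgroup (Equiv.Perm (Fin k)))).prodMap
        (MonoidHom.id (Fin r → Subgroup.zpowers (-1 : Fˣ)))) with hχ
  intro x
  let c0 : Subgroup.zpowers (-1 : Fˣ) := ⟨-1, Subgroup.mem_zpowers _⟩
  let S : Set ((Fin k → planeSyl P) × (Fin r → Subgroup.zpowers (-1 : Fˣ))) :=
    {y | ∃ (i : Fin k) (c : planeSyl P), GeneralLinearGroup.det (c : GL (Fin 2) F) = -1 ∧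
      y = (Pi.mulSingle i c, 1)} ∪ {y | ∃ j : Fin r, y = (1, Pi.mulSingle j c0)}
  have hval : ∀ (i : Fin k) (c : planeSyl P), GeneralLinearGroup.det (c : GL (Fin 2) F) = -1 →
      χ (Pi.mulSingle i c, 1) = classVal (-1) ∨ χ (Pi.mulSingle i c, 1) = classVal 1 := by
    rintro i ⟨-, p, hp, rfl⟩ hdet
    have h : χ (Pi.mulSingle i ⟨(p : GL (Fin 2) F), p, hp, rfl⟩, 1) = chi (inPlane d h2 i p) :=
      chiH_single h2 d P R i p hp
    have h1 : (chi (inPlane d h2 i p)).1 = -1 := (det_inPlane d h2 i p).trans hdet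
    rcases Int.units_eq_one_or (chi (inPlane d h2 i p)).2 with hz | hz
    · exact Or.inr (h.trans (Prod.ext h1 hz))
    · exact Or.inl (h.trans (Prod.ext h1 hz))
  have hvalj : ∀ j : Fin r, χ (1, Pi.mulSingle j c0) = classVal (-1) ∨
      χ (1, Pi.mulSingle j c0) = classVal 1 := by
    intro j
    have h1 : (χ (1, Pi.mulSingle j c0)).1 = -1 := by
      show GeneralLinearGroup.det (sumGL F _ _ (wreathGL _ _ (SemidirectProduct.inl 1),
        diagFin F r fun l => ((Pi.mulSingle j c0 : Fin r → Subgroup.zpowers (-1 : Fˣ)) l : Fˣ))) = -1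
      rw [det_sumGL, map_one, map_one, map_one, one_mul]
      apply Units.ext
      show Matrix.det (Matrix.diagonal _) = _
      rw [Matrix.det_diagonal, Finset.prod_eq_single j]
      · simp [c0]
      · intro l _ hl; simp [Pi.mulSingle_eq_of_ne hl]
      · simp
    rcases Int.units_eq_one_or (χ (1, Pi.mulSingle j c0)).2 with hz | hz
    · exact Or.inr (Prod.ext h1 hz)
    · exact Or.inl (Prod.ext h1 hz)
  have hcsq : c0 * c0 = 1 := Subtype.ext (by simp [c0])
  have hdsq : ∀ c : planeSyl P, GeneralLinearGroup.det (c : GL (Fin 2) F) = -1 → c * c = 1 := by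
    rintro ⟨-, p, hp, rfl⟩ hdet
    exact Subtype.ext (congrArg Subtype.val (plane_involution h2 p hdet) :)
  have hcomm : ∀ (i : Fin k) (c : planeSyl P) (i' : Fin k) (c' : planeSyl P), i ≠ i' →
      ((Pi.mulSingle i c, 1) : (Fin k → planeSyl P) × (Fin r → Subgroup.zpowers (-1 : Fˣ))) *
        (Pi.mulSingle i' c', 1) = (Pi.mulSingle i' c', 1) * (Pi.mulSingle i c, 1) :=
    fun i c i' c' h =>
      Prod.ext (Pi.mulSingle_commute (f := fun _ : Fin k => planeSyl P) h c c').eq rfl
  have hS : Subgroup.closure S = ⊤ := by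
    rw [eq_top_iff]
    rintro ⟨n, z⟩ -
    rw [show ((n, z) : (Fin k → planeSyl P) × (Fin r → Subgroup.zpowers (-1 : Fˣ))) = (n, 1) * (1, z)
      by simp]
    refine Subgroup.mul_mem _ ?_ ?_
    · refine (Subgroup.pi_mem_of_mulSingle_mem
        (H := (Subgroup.closure S).comap (MonoidHom.inl _ _)) n fun i => ?_)
      show ((Pi.mulSingle i (n i), 1) :
        (Fin k → planeSyl P) × (Fin r → Subgroup.zpowers (-1 : Fˣ))) ∈ Subgroup.closure S
      obtain ⟨e, he, -⟩ := exists_class h2 P R hd i 1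
      obtain ⟨g, hg⟩ : ∃ g : GL (Fin 2) F, (n i : GL (Fin 2) F) = g := ⟨_, rfl⟩
      have hsq : GeneralLinearGroup.det g = 1 ∨ GeneralLinearGroup.det g = -1 := by
        have hgg := congrArg Matrix.det (planeSyl_gram h2 P g (hg ▸ (n i).2))
        rw [det_mul, det_transpose, det_one, mul_self_eq_one_iff] at hgg
        rcases hgg with h | h
        · exact Or.inl (Units.ext h)
        · exact Or.inr (Units.ext (by rw [Units.val_neg, Units.val_one]; exact h))
      rw [← hg] at hsq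
      rcases hsq with h | h
      · have hee : e * (e * n i) = n i := by rw [← mul_assoc, hdsq e he, one_mul]
        rw [← hee, show ((Pi.mulSingle i (e * (e * n i)), 1) :
          (Fin k → planeSyl P) × (Fin r → Subgroup.zpowers (-1 : Fˣ))) =
            (Pi.mulSingle i e, 1) * (Pi.mulSingle i (e * n i), 1) by
          rw [Pi.mulSingle_mul, Prod.mk_mul_mk, one_mul]]
        refine Subgroup.mul_mem _ (Subgroup.subset_closure (Or.inl ⟨i, e, he, rfl⟩))
          (Subgroup.subset_closure (Or.inl ⟨i, _, ?_, rfl⟩))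
        rw [Subgroup.coe_mul, map_mul, he, h, mul_one]
      · exact Subgroup.subset_closure (Or.inl ⟨i, _, h, rfl⟩)
    · refine (Subgroup.pi_mem_of_mulSingle_mem
        (H := (Subgroup.closure S).comap (MonoidHom.inr _ _)) z fun j => ?_)
      show ((1, Pi.mulSingle j (z j)) :
        (Fin k → planeSyl P) × (Fin r → Subgroup.zpowers (-1 : Fˣ))) ∈ Subgroup.closure S
      obtain ⟨n', hn'⟩ := Subgroup.mem_zpowers_iff.1 (z j).2
      have hz : z j = c0 ^ n' := Subtype.ext (by rw [← hn', SubgroupClass.coe_zpow])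
      rw [hz, show ((1, Pi.mulSingle j (c0 ^ n')) :
        (Fin k → planeSyl P) × (Fin r → Subgroup.zpowers (-1 : Fˣ))) = (1, Pi.mulSingle j c0) ^ n' from
        map_zpow ((MonoidHom.inr (Fin k → planeSyl P) (Fin r → Subgroup.zpowers (-1 : Fˣ))).comp
          (MonoidHom.mulSingle (fun _ : Fin r => Subgroup.zpowers (-1 : Fˣ)) j)) c0 n']
      exact (Subgroup.closure S).zpow_mem (Subgroup.subset_closure (Or.inr ⟨j, rfl⟩ : (1, Pi.mulSingle j c0) ∈ S)) n'
  obtain ⟨ha, hb, hab⟩ := classVal_facts h2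
  obtain ⟨e1, he1, he1'⟩ := exists_class h2 P R hd ⟨0, by omega⟩ (-1)
  obtain ⟨e2, he2, he2'⟩ := exists_class h2 P R hd ⟨1, by omega⟩ 1
  refine good_ker_of_classes (χ := χ) hS ha hb hab ?_ ?_ ?_ (Or.inl ⟨_, e1, he1, rfl⟩) he1'
    (Or.inl ⟨_, e2, he2, rfl⟩) he2' (hcomm _ e1 _ e2 (by simp)) x
  · rintro s (⟨i, c, hc, rfl⟩ | ⟨j, rfl⟩)
    · exact hval i c hc
    · exact hvalj j
  · rintro s (⟨i, c, hc, rfl⟩ | ⟨j, rfl⟩)
    · rw [Prod.mk_mul_mk, ← Pi.mulSingle_mul, hdsq c hc, Pi.mulSingle_one, one_mul]; rfl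
    · rw [Prod.mk_mul_mk, ← Pi.mulSingle_mul, hcsq, Pi.mulSingle_one, one_mul]; rfl
  · rintro s (⟨i, c, hc, rfl⟩ | ⟨j, rfl⟩) t (⟨i', c', hc', rfl⟩ | ⟨j', rfl⟩) hst
    · by_cases h : i = i'
      · subst h
        obtain ⟨l, hl⟩ : ∃ l : Fin k, l ≠ i := by
          haveI : Nontrivial (Fin k) := Fin.nontrivial_iff_two_le.2 hk
          exact exists_ne i
        obtain ⟨z, hz⟩ : ∃ z, χ (Pi.mulSingle i c, 1) = classVal z := by
          rcases hval i c hc with h | h <;> exact ⟨_, h⟩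
        obtain ⟨e, he, he'⟩ := exists_class h2 P R hd l z
        exact ⟨_, Or.inl ⟨l, e, he, rfl⟩, he'.trans hz.symm, hcomm _ _ _ _ hl.symm,
          hcomm _ _ _ _ hl⟩
      · exact ⟨_, Or.inl ⟨i, c, hc, rfl⟩, rfl, rfl, hcomm _ _ _ _ h⟩
    · exact ⟨_, Or.inl ⟨i, c, hc, rfl⟩, rfl, rfl, by simp [Prod.mk_mul_mk]⟩
    · exact ⟨_, Or.inr ⟨j, rfl⟩, rfl, rfl, by simp [Prod.mk_mul_mk]⟩
    · exact ⟨_, Or.inr ⟨j, rfl⟩, rfl, rfl, Prod.ext (by simp) (mul_comm _ _)⟩

include h2 hd in
theorem good_chiH_ker (hk : 2 ≤ k) (x : (chiH h2 d P R).ker) : Good 2 x := by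
  set ιB := (SemidirectProduct.inl :
      (Fin k → planeSyl P) →* WGroup (planeSyl P) (R : Subgroup (Equiv.Perm (Fin k)))).prodMap
        (MonoidHom.id (Fin r → Subgroup.zpowers (-1 : Fˣ))) with hι
  let f : ((chiH h2 d P R).comp ιB).ker →* (chiH h2 d P R).ker :=
    (ιB.comp (((chiH h2 d P R).comp ιB).ker).subtype).codRestrict _ fun y => y.2
  let g : (R : Subgroup (Equiv.Perm (Fin k))) →* (chiH h2 d P R).ker :=
    ((MonoidHom.inl (WGroup (planeSyl P) (R : Subgroup (Equiv.Perm (Fin k))))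
      (Fin r → Subgroup.zpowers (-1 : Fˣ))).comp SemidirectProduct.inr).codRestrict _
      fun σ => chiH_perm h2 d P R σ
  set σ := (x : OGroup (planeSyl P) (R : Subgroup (Equiv.Perm (Fin k))) r).1.right
  set y : (chiH h2 d P R).ker := x * (g σ)⁻¹ with hy
  have hyv : (y : OGroup (planeSyl P) (R : Subgroup (Equiv.Perm (Fin k))) r) =
      ιB (x.val.1.left, x.val.2) := by
    refine Prod.ext ?_ ?_
    · show x.val.1 * (SemidirectProduct.inr σ)⁻¹ = SemidirectProduct.inl x.val.1.left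
      rw [mul_inv_eq_iff_eq_mul, SemidirectProduct.inl_left_mul_inr_right]
    · show x.val.2 * 1⁻¹ = x.val.2
      rw [inv_one, mul_one]
  have hk' : (x.val.1.left, x.val.2) ∈ ((chiH h2 d P R).comp ιB).ker := by
    rw [MonoidHom.mem_ker, MonoidHom.comp_apply, ← hyv]; exact y.2
  have hfy : f ⟨_, hk'⟩ = y := Subtype.ext hyv.symm
  rw [← mem_goodSubgroup, show x = y * g σ by rw [hy, inv_mul_cancel_right]]
  exact Subgroup.mul_mem _ (mem_goodSubgroup.2 (hfy ▸ good_map f (good_base h2 P R hd hk _)))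
    (mem_goodSubgroup.2 (good_map g (good_perm k R σ)))

include h2 hd in
theorem range_chiH (hk : 2 ≤ k) : (chiH h2 d P R).range = (chi (Q := modelQ k d)).range := by
  apply le_antisymm
  · rintro _ ⟨y, rfl⟩
    exact ⟨_, rfl⟩
  · rw [MonoidHom.range_eq_map, ← closure_reflections h2 (nondegenerate_weighted h2 (modelW_ne hd)),
      MonoidHom.map_closure, Subgroup.closure_le]
    rintro _ ⟨_, ⟨v, hv, rfl⟩, rfl⟩
    obtain ⟨c, -, hc⟩ := exists_class h2 P R hd ⟨0, by omega⟩ (theta 1 (reflection hv))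
    refine ⟨_, hc.trans (Prod.ext ?_ rfl)⟩
    exact (detHom_reflection hv).symm

include hd in
/-- **Sylow `2`-subgroups of `Ω` of the model are good, and the model embeds in them.** -/
theorem exists_omega_sylow (h2 : (2 : F) ≠ 0) (hk : 2 ≤ k)
    (hcard : (Nat.card ↥(isometryGroup F ⇑(modelQ k d))).factorization 2 =
      k * (Nat.card ↥(isometryGroup F ⇑(planeQ F))).factorization 2 +
        k.factorial.factorization 2 + r)
    (Q : Sylow 2 (Omega F ⇑(modelQ k d))) (y : (Q : Subgroup (Omega F ⇑(modelQ k d)))) :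
    Good 2 y := by
  classical
  haveI : Fact (Nat.Prime 2) := ⟨Nat.prime_two⟩
  let P : Sylow 2 ↥(isometryGroup F ⇑(planeQ F)) := default
  let R : Sylow 2 (Equiv.Perm (Fin k)) := default
  have hQ := nondegenerate_weighted h2 (modelW_ne (k := k) hd)
  have hn : 2 ≤ Fintype.card ((Fin 2 × Fin k) ⊕ Fin r) := by
    rw [Fintype.card_sum, Fintype.card_prod, Fintype.card_fin, Fintype.card_fin]; omega
  have hker := ker_chi h2 hQ hn
  let f : (chiH h2 d P R).ker →* Omega F ⇑(modelQ k d) :=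
    ((toModel d (planeSyl P) (R : Subgroup (Equiv.Perm (Fin k))) (planeSyl_gram h2 P)).comp
      (chiH h2 d P R).ker.subtype).codRestrict _ fun x => hker ▸ x.2
  have hf : Function.Injective f := fun a b h => Subtype.ext
    (toModel_injective d _ _ (planeSyl_gram h2 P) (congrArg Subtype.val h))
  refine good_sylow_of_hom f hf ?_ (good_chiH_ker h2 P R hd hk) Q y
  have hH : Nat.card (OGroup (planeSyl P) (R : Subgroup (Equiv.Perm (Fin k))) r) =
      2 ^ (Nat.card ↥(isometryGroup F ⇑(modelQ k d))).factorization 2 := by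
    rw [Nat.card_prod, SemidirectProduct.card, Nat.card_fun, Nat.card_fun, card_planeSyl,
      R.card_eq_multiplicity, Nat.card_perm, Nat.card_fin, Nat.card_fin, Nat.card_zpowers,
      orderOf_eq_prime (p := 2) (by rw [neg_one_sq]) (neg_one_ne_one_units h2), hcard, ← pow_mul,
      ← pow_add, ← pow_add, mul_comm k]
  have h1 := (chiH h2 d P R).ker.card_mul_index
  rw [Subgroup.index_ker, range_chiH h2 P R hd hk, hH] at h1
  refine eq_two_pow_of_mul h1 ?_ Nat.card_pos.ne'
  congr 1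
  have h3 := (chi (Q := modelQ k d)).ker.card_mul_index
  rw [Subgroup.index_ker, hker] at h3
  rw [h3]

end CfsgLib.SylowAbel
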