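import Cfsg.Agent.Lib.SylowAbel.OrthGood
import Cfsg.Agent.Lib.SylowAbel.MonoBase
import Cfsg.Agent.Lib.FormsDisc.Basic
import Cfsg.Agent.S0286
import Cfsg.Agent.S0287
import Cfsg.Agent.S0288

/-!
Sylow `2`-subgroups of `Ω` of the three standard forms are good.
-/

set_option autoImplicit false
set_option maxHeartbeats 800000

namespace CfsgLib.SylowAbel

open Cfsg CfsgLib.OrthSpinor
open QuadraticMap (weightedSumSquares)

variable {F : Type*} [Field F]

/-- Diagonalising hyperbolic planes. -/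
noncomputable def hypEquiv (h2 : (2 : F) ≠ 0) (m : ℕ) :
    (Fin m ⊕ Fin m → F) ≃ₗ[F] (Fin m ⊕ Fin m → F) where
  toFun v := Sum.elim (fun i => (v (.inl i) + v (.inr i)) / 2) (fun i => (v (.inl i) - v (.inr i)) / 2)
  invFun v := Sum.elim (fun i => v (.inl i) + v (.inr i)) (fun i => v (.inl i) - v (.inr i))
  map_add' u v := by funext i; rcases i with i | i <;> simp <;> ring
  map_smul' c v := by funext i; rcases i with i | i <;> simp <;> ring
  left_inv v := by funext i; rcases i with i | i <;> simp <;> field_simp <;> ring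
  right_inv v := by funext i; rcases i with i | i <;> simp <;> field_simp <;> ring

theorem hypEquiv_spec (h2 : (2 : F) ≠ 0) (m : ℕ) (v : Fin m ⊕ Fin m → F) :
    weightedSumSquares F (Sum.elim (fun _ : Fin m => (1 : F)) (fun _ : Fin m => -1))
      (hypEquiv h2 m v) = quadFormPlus m F v := by
  simp only [QuadraticMap.weightedSumSquares_apply, Fintype.sum_sum_type, quadFormPlus, hypEquiv,
    LinearEquiv.coe_mk, LinearMap.coe_mk, AddHom.coe_mk, Sum.elim_inl, Sum.elim_inr, smul_eq_mul,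
    ← Finset.sum_add_distrib]
  exact Finset.sum_congr rfl fun i _ => by field_simp; ring

/-- Completing the square. -/
noncomputable def shear (a : F) : (Fin 2 → F) ≃ₗ[F] (Fin 2 → F) where
  toFun v := ![v 0 + a / 2 * v 1, v 1]
  invFun v := ![v 0 - a / 2 * v 1, v 1]
  map_add' u v := by funext i; fin_cases i <;> simp <;> ring
  map_smul' c v := by funext i; fin_cases i <;> simp <;> ring
  left_inv v := by funext i; fin_cases i <;> simp
  right_inv v := by funext i; fin_cases i <;> simp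

/-- Equivalence of two sums. -/
noncomputable def sumLEquiv {α β : Type} (e₁ : (α → F) ≃ₗ[F] (α → F)) (e₂ : (β → F) ≃ₗ[F] (β → F)) :
    (α ⊕ β → F) ≃ₗ[F] (α ⊕ β → F) :=
  (LinearEquiv.sumArrowLequivProdArrow α β F F).trans
    ((e₁.prodCongr e₂).trans (LinearEquiv.sumArrowLequivProdArrow α β F F).symm)

theorem exists_minus_diag (h2 : (2 : F) ≠ 0) (m : ℕ) (a b : F) :
    ∃ e : ((Fin m ⊕ Fin m) ⊕ Fin 2 → F) ≃ₗ[F] ((Fin m ⊕ Fin m) ⊕ Fin 2 → F), ∀ v,
      weightedSumSquares F (Sum.elim (Sum.elim (fun _ : Fin m => (1 : F)) (fun _ : Fin m => -1))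
        ![1, b - a ^ 2 / 4]) (e v) = quadFormMinus m F a b v := by
  refine ⟨sumLEquiv (hypEquiv h2 m) (shear a), fun v => ?_⟩
  have h4 : (4 : F) ≠ 0 := by rw [show (4 : F) = 2 * 2 by norm_num]; exact mul_ne_zero h2 h2
  have h := hypEquiv_spec h2 m (fun x => v (.inl x))
  rw [QuadraticMap.weightedSumSquares_apply, quadFormPlus] at h
  rw [QuadraticMap.weightedSumSquares_apply, Fintype.sum_sum_type, quadFormMinus, ← h]
  congr 1
  simp [sumLEquiv, shear, LinearEquiv.sumArrowLequivProdArrow, Equiv.sumArrowEquivProdArrow,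
    Fin.sum_univ_two]
  field_simp
  ring

theorem exists_odd_diag (h2 : (2 : F) ≠ 0) (m : ℕ) :
    ∃ e : (Unit ⊕ (Fin m ⊕ Fin m) → F) ≃ₗ[F] (Unit ⊕ (Fin m ⊕ Fin m) → F), ∀ v,
      weightedSumSquares F (Sum.elim (fun _ => (1 : F))
        (Sum.elim (fun _ : Fin m => (1 : F)) (fun _ : Fin m => -1))) (e v) = quadFormOdd m F v := by
  refine ⟨sumLEquiv (LinearEquiv.refl F _) (hypEquiv h2 m), fun v => ?_⟩
  have h := hypEquiv_spec h2 m (fun x => v (.inr x))
  rw [QuadraticMap.weightedSumSquares_apply, quadFormPlus] at h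
  rw [QuadraticMap.weightedSumSquares_apply, Fintype.sum_sum_type, quadFormOdd, ← h]
  congr 1
  simp [sumLEquiv, LinearEquiv.sumArrowLequivProdArrow, Equiv.sumArrowEquivProdArrow, pow_two]

variable [Fintype F]

theorem exists_weighted_equiv (h2 : (2 : F) ≠ 0) {ι κ : Type} [Fintype ι] [Fintype κ]
    (hc : Fintype.card ι = Fintype.card κ) {w : ι → F} {w' : κ → F} (hw : ∀ i, w i ≠ 0)
    (hw' : ∀ i, w' i ≠ 0) (hsq : IsSquare ((∏ i, w i) * ∏ i, w' i)) :
    ∃ e : (ι → F) ≃ₗ[F] (κ → F), ∀ v,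
      weightedSumSquares F w' (e v) = weightedSumSquares F w v := by
  classical
  let ε : Fin (Fintype.card ι) ≃ ι := (Fintype.equivFin ι).symm
  let δ : Fin (Fintype.card ι) ≃ κ := (finCongr hc).trans (Fintype.equivFin κ).symm
  obtain ⟨f⟩ := CfsgLib.FormsDisc.weighted_equivalent h2 (w ∘ ε) (w' ∘ δ) (fun i => hw _)
    (fun i => hw' _) (by
      rw [show (∏ i, (w ∘ ε) i) = ∏ i, w i from ε.prod_comp w,
        show (∏ i, (w' ∘ δ) i) = ∏ i, w' i from δ.prod_comp w']
      exact hsq)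
  refine ⟨(LinearEquiv.funCongrLeft F F ε).trans
    (f.toLinearEquiv.trans (LinearEquiv.funCongrLeft F F δ.symm)), fun v => ?_⟩
  have h := f.map_app (LinearEquiv.funCongrLeft F F ε v)
  simp only [QuadraticMap.weightedSumSquares_apply, LinearEquiv.funCongrLeft_apply,
    LinearMap.funLeft_apply, Function.comp_apply, smul_eq_mul] at h
  rw [ε.sum_comp fun i => w i * (v i * v i)] at h
  simp only [QuadraticMap.weightedSumSquares_apply, smul_eq_mul, LinearEquiv.trans_apply,
    LinearEquiv.funCongrLeft_apply, LinearMap.funLeft_apply]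
  rw [← h, ← δ.sum_comp]
  simp

theorem exists_model_equiv (h2 : (2 : F) ≠ 0) {ι : Type} [Fintype ι] {Qf : (ι → F) → F}
    {w : ι → F} (hw : ∀ i, w i ≠ 0)
    (hdiag : ∃ e : (ι → F) ≃ₗ[F] (ι → F), ∀ v, weightedSumSquares F w (e v) = Qf v)
    (k : ℕ) {r : ℕ} {d : Fin r → F} (hd : ∀ j, d j ≠ 0) (hc : Fintype.card ι = 2 * k + r)
    (hsq : IsSquare ((∏ i, w i) * ∏ j, d j)) :
    ∃ e : (ι → F) ≃ₗ[F] ((Fin 2 × Fin k) ⊕ Fin r → F), ∀ v, modelQ k d (e v) = Qf v := by
  obtain ⟨e, he⟩ := hdiag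
  obtain ⟨f, hf⟩ := exists_weighted_equiv h2 (w := w) (w' := modelW k d)
    (by rw [hc, Fintype.card_sum, Fintype.card_prod, Fintype.card_fin, Fintype.card_fin,
      Fintype.card_fin]) hw (modelW_ne hd)
    (by rw [Fintype.prod_sum_type (modelW k d)]; simpa [modelW] using hsq)
  exact ⟨e.trans f, fun v => (hf _).trans (he v)⟩

theorem good_omega_of_equiv (h2 : (2 : F) ≠ 0) {ι : Type} [Fintype ι] [DecidableEq ι]
    {Qf : (ι → F) → F} {k r : ℕ} {d : Fin r → F} (hd : ∀ j, d j ≠ 0) (hk : 2 ≤ k)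
    (e : (ι → F) ≃ₗ[F] ((Fin 2 × Fin k) ⊕ Fin r → F)) (he : ∀ v, modelQ k d (e v) = Qf v)
    (hcard : (Nat.card ↥(isometryGroup F Qf)).factorization 2 =
      k * (Nat.card ↥(isometryGroup F ⇑(planeQ F))).factorization 2 +
        k.factorial.factorization 2 + r)
    (Q : Sylow 2 (Omega F Qf)) (y : (Q : Subgroup (Omega F Qf))) : Good 2 y := by
  haveI : Fact (Nat.Prime 2) := ⟨Nat.prime_two⟩
  let E : ↥(isometryGroup F Qf) ≃* ↥(isometryGroup F ⇑(modelQ k d)) :=
    (CfsgLib.Classical.Quad.isometryEquivModel e he).trans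
      (CfsgLib.Classical.Quad.isometryGroupEquiv (modelQ k d) fun _ => rfl).symm
  let E' := CfsgLib.Classical.Quad.commutatorEquiv E
  rw [Nat.card_congr E.toEquiv] at hcard
  let P : Sylow 2 (Omega F ⇑(modelQ k d)) := default
  refine good_sylow_of_hom (E'.symm.toMonoidHom.comp
    (P : Subgroup (Omega F ⇑(modelQ k d))).subtype)
    (E'.symm.injective.comp Subtype.val_injective) ?_ (exists_omega_sylow hd h2 hk hcard P) Q y
  rw [P.card_eq_multiplicity]
  congr 2
  exact congrArg Nat.factorization (Nat.card_congr E'.toEquiv.symm)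

/-! ### Arithmetic -/

theorem one_lt_q : 1 < Fintype.card F := Fintype.one_lt_card

theorem neg_one_pow_dichotomy (h2 : (2 : F) ≠ 0) (m : ℕ) (hm : m ≠ 0) :
    (IsSquare ((-1 : F) ^ m) ∧ (Fintype.card F ^ m - 1).factorization 2 + 1 =
      (Fintype.card F ^ 2 - 1).factorization 2 + m.factorization 2) ∨
    (¬ IsSquare ((-1 : F) ^ m) ∧ (Fintype.card F ^ m - 1).factorization 2 = 1) := by
  have hodd : Fintype.card F % 2 = 1 := FiniteField.odd_card_of_char_ne_two (fun h => h2 (by
    have := CharP.cast_eq_zero F (ringChar F)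
    rw [h] at this
    exact_mod_cast this))
  rcases Nat.even_or_odd m with ⟨j, rfl⟩ | hmo
  · refine Or.inl ⟨⟨(-1 : F) ^ j, by rw [pow_add]⟩, ?_⟩
    rw [← two_mul, CfsgLib.SpSylowTwo.factorization_sq_pow one_lt_q (Nat.odd_iff.2 hodd)
      (by omega : j ≠ 0), Nat.factorization_mul two_ne_zero (by omega : j ≠ 0), Finsupp.add_apply,
      Nat.prime_two.factorization, Finsupp.single_eq_same]
    ring
  rw [hmo.neg_one_pow]
  by_cases h : Fintype.card F % 4 = 3
  · exact Or.inr ⟨fun hs => FiniteField.isSquare_neg_one_iff.1 hs h,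
      factorization_pow_sub_one_odd h hmo⟩
  · refine Or.inl ⟨FiniteField.isSquare_neg_one_iff.2 h, ?_⟩
    rw [factorization_pow_sub_one_of_one (by omega) hm,
      factorization_pow_sub_one_of_one (by omega) two_ne_zero, Nat.prime_two.factorization,
      Finsupp.single_eq_same, Nat.factorization_eq_zero_of_not_dvd (n := m)
        (fun h => (Nat.not_even_iff_odd.2 hmo) (even_iff_two_dvd.2 h))]

theorem factorization_prod_sq (h2 : (2 : F) ≠ 0) (n : ℕ) :
    (∏ i ∈ Finset.range n, (Fintype.card F ^ (2 * (i + 1)) - 1)).factorization 2 =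
      n * (Fintype.card F ^ 2 - 1).factorization 2 + n.factorial.factorization 2 := by
  have hq := one_lt_q (F := F)
  have hodd : Odd (Fintype.card F) := Nat.odd_iff.2 (FiniteField.odd_card_of_char_ne_two (fun h => h2 (by
    have := CharP.cast_eq_zero F (ringChar F)
    rw [h] at this
    exact_mod_cast this)))
  have hne : ∀ i, Fintype.card F ^ (2 * (i + 1)) - 1 ≠ 0 := fun i => by
    have := Nat.one_lt_pow (n := 2 * (i + 1)) (by omega) hq
    omega
  induction n with
  | zero => simp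
  | succ n ih =>
    rw [Finset.prod_range_succ, Nat.factorization_mul (Finset.prod_ne_zero_iff.2 fun i _ => hne i)
      (hne n), Finsupp.add_apply, ih,
      CfsgLib.SpSylowTwo.factorization_sq_pow hq hodd (Nat.succ_ne_zero n), Nat.factorial_succ,
      Nat.factorization_mul (Nat.succ_ne_zero n) n.factorial_ne_zero, Finsupp.add_apply]
    ring

theorem factorization_sub_add (h2 : (2 : F) ≠ 0) (m : ℕ) (hm : m ≠ 0) :
    (Fintype.card F ^ m - 1).factorization 2 + (Fintype.card F ^ m + 1).factorization 2 =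
      (Fintype.card F ^ 2 - 1).factorization 2 + m.factorization 2 := by
  have hq := one_lt_q (F := F)
  have hodd : Odd (Fintype.card F) := Nat.odd_iff.2 (FiniteField.odd_card_of_char_ne_two (fun h => h2 (by
    have := CharP.cast_eq_zero F (ringChar F)
    rw [h] at this
    exact_mod_cast this)))
  have h1 : 1 < Fintype.card F ^ m := Nat.one_lt_pow hm hq
  rw [← CfsgLib.SpSylowTwo.factorization_sq_pow hq hodd hm,
    show Fintype.card F ^ (2 * m) - 1 = (Fintype.card F ^ m + 1) * (Fintype.card F ^ m - 1) by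
      rw [← Nat.sq_sub_sq, one_pow, ← pow_mul, mul_comm m],
    Nat.factorization_mul (by omega) (by omega), Finsupp.add_apply]
  ring

theorem factorization_order (h2 : (2 : F) ≠ 0) {A E n : ℕ} (hA : A ≠ 0) :
    (2 * Fintype.card F ^ E * A *
      ∏ i ∈ Finset.range n, (Fintype.card F ^ (2 * (i + 1)) - 1)).factorization 2 =
      1 + A.factorization 2 + (n * (Fintype.card F ^ 2 - 1).factorization 2 +
        n.factorial.factorization 2) := by
  have hq := one_lt_q (F := F)
  have hodd := FiniteField.odd_card_of_char_ne_two (F := F) (fun h => h2 (by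
    have := CharP.cast_eq_zero F (ringChar F)
    rw [h] at this
    exact_mod_cast this))
  have hne : (∏ i ∈ Finset.range n, (Fintype.card F ^ (2 * (i + 1)) - 1)) ≠ 0 :=
    Finset.prod_ne_zero_iff.2 fun i _ => by
      have := Nat.one_lt_pow (n := 2 * (i + 1)) (by omega) hq
      omega
  have hqE : Fintype.card F ^ E ≠ 0 := pow_ne_zero _ (by omega)
  rw [Nat.factorization_mul (Nat.mul_ne_zero (Nat.mul_ne_zero two_ne_zero hqE) hA) hne,
    Finsupp.add_apply, Nat.factorization_mul (Nat.mul_ne_zero two_ne_zero hqE) hA, Finsupp.add_apply,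
    Nat.factorization_mul two_ne_zero hqE, Finsupp.add_apply, Nat.prime_two.factorization,
    Finsupp.single_eq_same, factorization_prod_sq h2,
    Nat.factorization_eq_zero_of_not_dvd (n := Fintype.card F ^ E)
      (fun h => by have := Nat.prime_two.dvd_of_dvd_pow h; omega)]

theorem aniso_not_square {a b : F} (h2 : (2 : F) ≠ 0)
    (hab : ∀ z₁ z₂ : F, z₁ ^ 2 + a * z₁ * z₂ + b * z₂ ^ 2 = 0 → z₁ = 0 ∧ z₂ = 0) :
    ¬ IsSquare (-(b - a ^ 2 / 4)) := by
  rintro ⟨s, hs⟩
  have h4 : (4 : F) ≠ 0 := by rw [show (4 : F) = 2 * 2 by norm_num]; exact mul_ne_zero h2 h2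
  have h := hab (s - a / 2) 1 (by
    field_simp at hs ⊢
    linear_combination -hs)
  exact one_ne_zero h.2


theorem card_plane (h2 : (2 : F) ≠ 0) :
    (Nat.card ↥(isometryGroup F ⇑(planeQ F))).factorization 2 =
      (Fintype.card F ^ 2 - 1).factorization 2 := by
  have hq := one_lt_q (F := F)
  have key : ∀ {ι : Type} [Fintype ι] [DecidableEq ι] {Qf : (ι → F) → F}
      (e : (ι → F) ≃ₗ[F] (Fin 2 → F)), (∀ v, planeQ F (e v) = Qf v) →
      Nat.card ↥(isometryGroup F ⇑(planeQ F)) = Nat.card ↥(isometryGroup F Qf) := by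
    intro ι _ _ Qf e he
    exact Nat.card_congr ((CfsgLib.Classical.Quad.isometryGroupEquiv (planeQ F) fun _ => rfl).trans
      (CfsgLib.Classical.Quad.isometryEquivModel e he).symm).toEquiv
  rcases neg_one_pow_dichotomy h2 1 one_ne_zero with ⟨hs, hv⟩ | ⟨hs, hv⟩
  · obtain ⟨e, he⟩ := exists_weighted_equiv h2 (ι := Fin 1 ⊕ Fin 1) (κ := Fin 2)
      (w := Sum.elim (fun _ => (1 : F)) (fun _ => -1)) (w' := 1) rfl
      (by rintro (i | i) <;> simp) (fun _ => one_ne_zero) (by
        simpa using hs)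
    rw [key ((hypEquiv h2 1).trans e) (fun v => (he _).trans (hypEquiv_spec h2 1 v)),
      Cfsg.Agent.S0287.result rfl 1 le_rfl, factorization_order h2 (by simp; omega)]
    simp at hv ⊢
    omega
  · have hab : ∀ z₁ z₂ : F, z₁ ^ 2 + 0 * z₁ * z₂ + 1 * z₂ ^ 2 = 0 → z₁ = 0 ∧ z₂ = 0 := by
      intro x y hxy
      by_cases hy : y = 0
      · exact ⟨by simpa [hy] using hxy, hy⟩
      · exact absurd ⟨x / y, by field_simp; linear_combination -hxy⟩ hs
    obtain ⟨e0, he0⟩ := exists_minus_diag h2 0 (0 : F) 1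
    obtain ⟨e, he⟩ := exists_weighted_equiv h2 (ι := (Fin 0 ⊕ Fin 0) ⊕ Fin 2) (κ := Fin 2)
      (w := Sum.elim (Sum.elim (fun _ => (1 : F)) (fun _ => -1)) ![1, (1 : F) - 0 ^ 2 / 4])
      (w' := 1) rfl
      (by rintro ((i | i) | i) <;> [exact i.elim0; exact i.elim0; (fin_cases i <;> simp)])
      (fun _ => one_ne_zero) (by simp)
    rw [key (e0.trans e) (fun v => (he _).trans (he0 v)),
      show (0 : ℕ) = 1 - 1 from rfl, Cfsg.Agent.S0288.result rfl 1 le_rfl 0 1 hab,
      factorization_order h2 (by simp)]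
    have := factorization_sub_add h2 (F := F) 1 one_ne_zero
    simp at hv this ⊢
    omega

/-- The odd-dimensional case. -/
theorem good_omega_odd (h2 : (2 : F) ≠ 0) {m : ℕ} (hm : 2 ≤ m)
    (Q : Sylow 2 (Omega F (quadFormOdd m F))) (y : (Q : Subgroup (Omega F (quadFormOdd m F)))) :
    Good 2 y := by
  have hd : ∀ j : Fin 1, (fun _ => (-1 : F) ^ m) j ≠ 0 := fun _ => pow_ne_zero _ (by simp)
  obtain ⟨e, he⟩ := exists_model_equiv h2 (w := Sum.elim (fun _ : Unit => (1 : F))
      (Sum.elim (fun _ : Fin m => (1 : F)) (fun _ : Fin m => -1)))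
    (by rintro (u | i | i) <;> simp) (exists_odd_diag h2 m) m hd
    (by simp; ring) (by simp [Fintype.prod_sum_type])
  refine good_omega_of_equiv h2 hd hm e he ?_ Q y
  rw [Cfsg.Agent.S0286.result rfl (Nat.odd_iff.2 (FiniteField.odd_card_of_char_ne_two (fun h => h2 (by
    have := CharP.cast_eq_zero F (ringChar F)
    rw [h] at this
    exact_mod_cast this)))) m, card_plane h2]
  have := factorization_order h2 (F := F) (A := 1) (E := m ^ 2) (n := m) one_ne_zero
  rw [mul_one, Nat.factorization_one, Finsupp.zero_apply] at this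
  rw [this]
  ring

theorem factorization_factorial_pred {m : ℕ} (hm : 1 ≤ m) :
    m.factorial.factorization 2 = m.factorization 2 + (m - 1).factorial.factorization 2 := by
  obtain ⟨j, rfl⟩ : ∃ j, m = j + 1 := ⟨m - 1, by omega⟩
  rw [Nat.factorial_succ, Nat.factorization_mul (Nat.succ_ne_zero j) j.factorial_ne_zero,
    Finsupp.add_apply, Nat.add_sub_cancel]

/-- The plus case. -/
theorem good_omega_plus (h2 : (2 : F) ≠ 0) {m : ℕ} (hm : 1 ≤ m) (hm' : Even m ∨ 3 ≤ m)
    (Q : Sylow 2 (Omega F (quadFormPlus m F))) (y : (Q : Subgroup (Omega F (quadFormPlus m F)))) :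
    Good 2 y := by
  have hA : Fintype.card F ^ m - 1 ≠ 0 := by
    have := Nat.one_lt_pow (n := m) (by omega) (one_lt_q (F := F)); omega
  have hf := factorization_factorial_pred hm
  obtain ⟨n, rfl⟩ : ∃ n, m = n + 1 := ⟨m - 1, by omega⟩
  rcases neg_one_pow_dichotomy h2 (n + 1) (by omega) with ⟨hs, hv⟩ | ⟨hs, hv⟩
  · have hd : ∀ j : Fin 0, (Fin.elim0 j : F) ≠ 0 := fun j => j.elim0
    obtain ⟨e, he⟩ := exists_model_equiv h2
      (w := Sum.elim (fun _ : Fin (n + 1) => (1 : F)) (fun _ : Fin (n + 1) => -1))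
      (by rintro (i | i) <;> simp) ⟨hypEquiv h2 _, hypEquiv_spec h2 _⟩ (n + 1) hd
      (by simp; ring) (by simpa [Fintype.prod_sum_type] using hs)
    refine good_omega_of_equiv h2 hd (by rcases hm' with ⟨j, hj⟩ | h <;> omega) e he ?_ Q y
    rw [Cfsg.Agent.S0287.result rfl (n + 1) hm, factorization_order h2 hA, card_plane h2,
      add_mul, one_mul, add_tsub_cancel_right]
    rw [add_tsub_cancel_right] at hf
    omega
  · have hm3 : 3 ≤ n + 1 := by
      rcases hm' with ⟨j, hj⟩ | h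
      · exact absurd ⟨(-1 : F) ^ j, by rw [hj, pow_add]⟩ hs
      · exact h
    have hd : ∀ j : Fin 2, (![1, (-1 : F) ^ (n + 1)] : Fin 2 → F) j ≠ 0 := fun j => by
      fin_cases j <;> simp
    obtain ⟨e, he⟩ := exists_model_equiv h2
      (w := Sum.elim (fun _ : Fin (n + 1) => (1 : F)) (fun _ : Fin (n + 1) => -1))
      (by rintro (i | i) <;> simp) ⟨hypEquiv h2 _, hypEquiv_spec h2 _⟩ n hd
      (by simp; ring) (by simp [Fintype.prod_sum_type, Fin.prod_univ_two])
    refine good_omega_of_equiv h2 hd (by omega) e he ?_ Q y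
    rw [Cfsg.Agent.S0287.result rfl (n + 1) hm, factorization_order h2 hA, card_plane h2,
      add_tsub_cancel_right]
    omega

/-- The minus case. -/
theorem good_omega_minus (h2 : (2 : F) ≠ 0) {m : ℕ} (hm : 3 ≤ m) (a b : F)
    (hab : ∀ z₁ z₂ : F, z₁ ^ 2 + a * z₁ * z₂ + b * z₂ ^ 2 = 0 → z₁ = 0 ∧ z₂ = 0)
    (Q : Sylow 2 (Omega F (quadFormMinus (m - 1) F a b)))
    (y : (Q : Subgroup (Omega F (quadFormMinus (m - 1) F a b)))) :
    Good 2 y := by
  have hδ := aniso_not_square h2 hab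
  have hδ0 : b - a ^ 2 / 4 ≠ 0 := fun h => hδ (by rw [h, neg_zero]; exact IsSquare.zero)
  have hA : Fintype.card F ^ m + 1 ≠ 0 := Nat.succ_ne_zero _
  have hf := factorization_factorial_pred (show 1 ≤ m by omega)
  have hsum := factorization_sub_add h2 (F := F) m (by omega)
  have hord : (Nat.card ↥(isometryGroup F (quadFormMinus (m - 1) F a b))).factorization 2 = _ :=
    (congrArg (fun t => t.factorization 2) (Cfsg.Agent.S0288.result rfl m (by omega) a b hab)).trans
      (factorization_order h2 hA)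
  have hw : ∀ z, (Sum.elim (Sum.elim (fun _ : Fin (m - 1) => (1 : F)) (fun _ : Fin (m - 1) => -1))
      ![1, b - a ^ 2 / 4]) z ≠ 0 := by
    rintro ((i | i) | i) <;> [simp; simp; (fin_cases i <;> simp [hδ0])]
  rcases neg_one_pow_dichotomy h2 m (by omega) with ⟨hs, hv⟩ | ⟨hs, hv⟩
  · have hd : ∀ j : Fin 2, (![1, (-1 : F) ^ (m - 1) * (b - a ^ 2 / 4)] : Fin 2 → F) j ≠ 0 :=
      fun j => by fin_cases j <;> simp [hδ0]
    obtain ⟨e, he⟩ := exists_model_equiv h2 hw (exists_minus_diag h2 _ a b) (m - 1) hd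
      (by simp; ring) (by simp [Fintype.prod_sum_type, Fin.prod_univ_two])
    refine good_omega_of_equiv h2 hd (by omega) e he ?_ Q y
    rw [hord, card_plane h2]
    omega
  · have hd : ∀ j : Fin 0, (Fin.elim0 j : F) ≠ 0 := fun j => j.elim0
    obtain ⟨e, he⟩ := exists_model_equiv h2 hw (exists_minus_diag h2 _ a b) m hd
      (by simp; omega) (by
        have hpow : (-1 : F) ^ m * -(b - a ^ 2 / 4) = (-1 : F) ^ (m - 1) * (b - a ^ 2 / 4) := by
          obtain ⟨j, rfl⟩ : ∃ j, m = j + 1 := ⟨m - 1, by omega⟩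
          rw [Nat.add_sub_cancel, pow_succ]; ring
        have hsq : IsSquare ((-1 : F) ^ m * -(b - a ^ 2 / 4)) :=
          (CfsgLib.FormsDisc.isSquare_mul_iff_of_odd h2 (pow_ne_zero _ (by simp))
            (neg_ne_zero.2 hδ0)).2 ⟨fun h => absurd h hs, fun h => absurd h hδ⟩
        rw [hpow] at hsq
        simpa [Fintype.prod_sum_type, Fin.prod_univ_two] using hsq)
    refine good_omega_of_equiv h2 hd (by omega) e he ?_ Q y
    rw [hord, card_plane h2]
    obtain ⟨j, rfl⟩ : ∃ j, m = j + 1 := ⟨m - 1, by omega⟩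
    rw [add_tsub_cancel_right] at hf ⊢
    rw [add_mul, one_mul]
    omega

end CfsgLib.SylowAbel
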