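import Cfsg.Agent.Lib.SylowAbel.OrthAbs
import Cfsg.Agent.Lib.SylowAbel.GLBase
import Cfsg.Agent.Lib.SylowAbel.Mono
import Cfsg.Agent.Lib.Orth.Spinor

/-!
Sylow `2`-subgroups of `Ω` of the form `k` planes `x² + y²` plus a diagonal rest.
-/

set_option autoImplicit false
set_option maxHeartbeats 800000

namespace CfsgLib.SylowAbel

open Matrix Cfsg CfsgLib.OrthSpinor
open QuadraticMap (polar weightedSumSquares)

variable {F : Type*} [Field F]

section Diag

variable {ι : Type} [Fintype ι] [DecidableEq ι]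

theorem polar_weighted (w x y : ι → F) :
    polar (⇑(weightedSumSquares F w)) x y = ∑ i, 2 * (w i * (x i * y i)) := by
  simp only [QuadraticMap.polar, QuadraticMap.weightedSumSquares_apply, Pi.add_apply, smul_eq_mul,
    ← Finset.sum_sub_distrib]
  exact Finset.sum_congr rfl fun i _ => by ring

theorem nondegenerate_weighted (h2 : (2 : F) ≠ 0) {w : ι → F} (hw : ∀ i, w i ≠ 0) :
    (QuadraticMap.polarBilin (weightedSumSquares F w)).Nondegenerate := by
  have hsep : ∀ x : ι → F, (∀ y, polar (⇑(weightedSumSquares F w)) x y = 0) → x = 0 := by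
    intro x hx
    funext j
    have h := hx (Pi.single j 1)
    rw [polar_weighted, Finset.sum_eq_single j
      (fun i _ hij => by rw [Pi.single_eq_of_ne hij]; ring) (by simp)] at h
    simpa [h2, hw j] using h
  exact ⟨fun x hx => hsep x hx, fun y hy => hsep y fun x => by
    rw [polar_comm']; exact hy x⟩

theorem weighted_eq_dot (w v : ι → F) :
    weightedSumSquares F w v = v ⬝ᵥ (diagonal w *ᵥ v) := by
  simp only [QuadraticMap.weightedSumSquares_apply, dotProduct, mulVec_diagonal, smul_eq_mul]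
  exact Finset.sum_congr rfl fun i _ => by ring

/-- Preserving the Gram matrix implies preserving the form. -/
theorem mem_isometry_of_gram {w : ι → F} (g : GL ι F)
    (h : (g : Matrix ι ι F)ᵀ * diagonal w * (g : Matrix ι ι F) = diagonal w) :
    g ∈ isometryGroup F ⇑(weightedSumSquares F w) := by
  intro v _
  show weightedSumSquares F w ((g : Matrix ι ι F) *ᵥ v) = weightedSumSquares F w v
  rw [weighted_eq_dot, weighted_eq_dot, mulVec_mulVec]
  nth_rewrite 1 [← vecMul_transpose]
  rw [← dotProduct_mulVec, mulVec_mulVec, ← mul_assoc, h]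

/-- `(det, θ)`. -/
noncomputable def chi [Fintype F] {Q : QuadraticForm F (ι → F)} :
    ↥(isometryGroup F ⇑Q) →* Fˣ × ℤˣ :=
  detHom.prod (theta (Q := Q) 1)

theorem chi_mul_self [Fintype F] (h2 : (2 : F) ≠ 0) {Q : QuadraticForm F (ι → F)}
    (hQ : (QuadraticMap.polarBilin Q).Nondegenerate) (g : ↥(isometryGroup F ⇑Q)) :
    chi g * chi g = 1 := by
  have h : chi (Q := Q) * chi = 1 := hom_ext h2 hQ fun v hv => by
    rw [MonoidHom.mul_apply, ← map_mul, reflection_mul_self, map_one, MonoidHom.one_apply]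
  exact DFunLike.congr_fun h g

theorem ker_chi [Fintype F] (h2 : (2 : F) ≠ 0) {Q : QuadraticForm F (ι → F)}
    (hQ : (QuadraticMap.polarBilin Q).Nondegenerate) (hn : 2 ≤ Fintype.card ι) :
    chi.ker = Omega F ⇑Q := by
  ext g
  rw [mem_Omega_iff h2 hQ hn one_ne_zero, MonoidHom.mem_ker, chi, MonoidHom.prod_apply,
    Prod.mk_eq_one]

end Diag

/-- The plane `x² + y²`. -/
abbrev planeQ (F : Type*) [Field F] : QuadraticForm F (Fin 2 → F) :=
  weightedSumSquares F (1 : Fin 2 → F)

theorem plane_gram (h2 : (2 : F) ≠ 0) (g : ↥(isometryGroup F ⇑(planeQ F))) :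
    ((g : GL (Fin 2) F) : Matrix (Fin 2) (Fin 2) F)ᵀ * (g : GL (Fin 2) F).val = 1 := by
  set M : Matrix (Fin 2) (Fin 2) F := (g : GL (Fin 2) F).val with hM
  have h : ∀ v : Fin 2 → F, planeQ F (M *ᵥ v) = planeQ F v := fun v => g.2 v v
  have ha := h ![1, 0]
  have hb := h ![0, 1]
  have hc := h ![1, 1]
  simp [planeQ, QuadraticMap.weightedSumSquares_apply, mulVec, dotProduct, Fin.sum_univ_two] at ha hb hc
  have hab : M 0 0 * M 0 1 + M 1 0 * M 1 1 = 0 :=
    mul_left_cancel₀ h2 (by linear_combination hc - ha - hb)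
  ext i j
  fin_cases i <;> fin_cases j <;> simp [Matrix.mul_apply, Fin.sum_univ_two]
  · linear_combination ha
  · linear_combination hab
  · linear_combination hab
  · linear_combination hb

theorem plane_involution (h2 : (2 : F) ≠ 0) (g : ↥(isometryGroup F ⇑(planeQ F)))
    (hd : detHom g = -1) : g * g = 1 := by
  set M : Matrix (Fin 2) (Fin 2) F := (g : GL (Fin 2) F).val with hM
  have hdet : M.det = -1 := by
    have := congrArg Units.val hd
    rwa [detHom_coe, Units.val_neg, Units.val_one] at this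
  have hg := plane_gram h2 g
  have hadj : M.adjugate = -Mᵀ := by
    calc M.adjugate = Mᵀ * M * M.adjugate := by rw [hg, one_mul]
      _ = -Mᵀ := by rw [mul_assoc, mul_adjugate, hdet, neg_one_smul, mul_neg, mul_one]
  have hsym : Mᵀ = M := by
    rw [adjugate_fin_two] at hadj
    have e01 := congrFun (congrFun hadj 0) 1
    simp at e01
    ext i j
    fin_cases i <;> fin_cases j <;> simp [e01]
  apply Subtype.ext; apply Units.ext
  show M * M = 1
  nth_rewrite 1 [← hsym]
  exact hg

section Model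

variable {k r : ℕ}

/-- The coefficients. -/
abbrev modelW (k : ℕ) {r : ℕ} (d : Fin r → F) : (Fin 2 × Fin k) ⊕ Fin r → F :=
  Sum.elim (fun _ => 1) d

/-- The form. -/
abbrev modelQ (k : ℕ) {r : ℕ} (d : Fin r → F) :
    QuadraticForm F ((Fin 2 × Fin k) ⊕ Fin r → F) :=
  weightedSumSquares F (modelW k d)

/-- Direct sum of matrices. -/
noncomputable def sumGL (F : Type*) [Field F] (ι κ : Type) [Fintype ι] [DecidableEq ι] [Fintype κ]
    [DecidableEq κ] : GL ι F × GL κ F →* GL (ι ⊕ κ) F :=
  MonoidHom.toHomUnits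
    { toFun := fun p => fromBlocks (p.1 : Matrix ι ι F) 0 0 (p.2 : Matrix κ κ F)
      map_one' := fromBlocks_one
      map_mul' := fun p q => by simp [fromBlocks_multiply] }

theorem sumGL_val {ι κ : Type} [Fintype ι] [DecidableEq ι] [Fintype κ] [DecidableEq κ]
    (p : GL ι F × GL κ F) :
    ((sumGL F ι κ p : GL (ι ⊕ κ) F) : Matrix (ι ⊕ κ) (ι ⊕ κ) F) =
      fromBlocks (p.1 : Matrix ι ι F) 0 0 (p.2 : Matrix κ κ F) := rfl

theorem sumGL_injective (ι κ : Type) [Fintype ι] [DecidableEq ι] [Fintype κ] [DecidableEq κ] :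
    Function.Injective (sumGL F ι κ) := fun _ _ h =>
  Prod.ext (Units.ext (fromBlocks_inj.1 (congrArg Units.val h)).1)
    (Units.ext (fromBlocks_inj.1 (congrArg Units.val h)).2.2.2)

theorem det_sumGL {ι κ : Type} [Fintype ι] [DecidableEq ι] [Fintype κ] [DecidableEq κ]
    (p : GL ι F × GL κ F) :
    GeneralLinearGroup.det (sumGL F ι κ p) =
      GeneralLinearGroup.det p.1 * GeneralLinearGroup.det p.2 :=
  Units.ext (det_fromBlocks_zero₂₁ _ _ _)

variable (d : Fin r → F)

theorem sumGL_mem (A : GL (Fin 2 × Fin k) F) (B : GL (Fin r) F)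
    (hA : A.valᵀ * A.val = 1)
    (hB : B.valᵀ * diagonal d * B.val = diagonal d) :
    sumGL F _ _ (A, B) ∈ isometryGroup F ⇑(modelQ k d) := by
  apply mem_isometry_of_gram
  rw [sumGL_val, fromBlocks_transpose, ← fromBlocks_diagonal, fromBlocks_multiply,
    fromBlocks_multiply]
  simp [hA, hB]

theorem blockGL_gram (g : Fin k → GL (Fin 2) F)
    (hg : ∀ i, (g i : Matrix (Fin 2) (Fin 2) F)ᵀ * (g i : Matrix _ _ F) = 1) :
    (blockGL F k g).valᵀ * (blockGL F k g).val = 1 := by
  rw [blockGL_val, blockDiagonal_transpose, ← blockDiagonal_mul,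
    show (fun i => (g i : Matrix (Fin 2) (Fin 2) F)ᵀ * (g i : Matrix _ _ F)) = 1 from funext hg,
    blockDiagonal_one]

theorem perm_gram {ι : Type} [Fintype ι] [DecidableEq ι] (σ : Equiv.Perm ι) :
    (σ.permMatrix F)ᵀ * σ.permMatrix F = 1 := by
  rw [transpose_permMatrix, ← permMatrix_mul, mul_inv_cancel, permMatrix_one]

/-- One plane inside the model. -/
noncomputable def inPlane (h2 : (2 : F) ≠ 0) (i : Fin k) :
    ↥(isometryGroup F ⇑(planeQ F)) →* ↥(isometryGroup F ⇑(modelQ k d)) :=
  ((sumGL F (Fin 2 × Fin k) (Fin r)).comp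
    (((blockGL F k).comp ((MonoidHom.mulSingle (fun _ : Fin k => GL (Fin 2) F) i).comp
      (isometryGroup F ⇑(planeQ F)).subtype)).prod 1)).codRestrict _ fun g => by
    refine sumGL_mem d _ _ (blockGL_gram _ fun j => ?_) (by simp)
    by_cases h : j = i
    · subst h
      rw [MonoidHom.comp_apply, MonoidHom.mulSingle_apply, Pi.mulSingle_eq_same]
      exact plane_gram h2 g
    · rw [MonoidHom.comp_apply, MonoidHom.mulSingle_apply, Pi.mulSingle_eq_of_ne h]
      simp

theorem det_inPlane (h2 : (2 : F) ≠ 0) (i : Fin k) (g : ↥(isometryGroup F ⇑(planeQ F))) :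
    detHom (inPlane d h2 i g) = detHom g := by
  show GeneralLinearGroup.det (sumGL F _ _ (blockGL F k (Pi.mulSingle i (g : GL (Fin 2) F)), 1)) = _
  rw [det_sumGL, det_blockGL, map_one, mul_one, Finset.prod_eq_single i]
  · rw [Pi.mulSingle_eq_same]; rfl
  · intro j _ hj
    rw [Pi.mulSingle_eq_of_ne hj, map_one]
  · simp

/-- A vector of one plane inside the model. -/
def extVec (i : Fin k) (u : Fin 2 → F) : (Fin 2 × Fin k) ⊕ Fin r → F :=
  Sum.elim (fun x => if x.2 = i then u x.1 else 0) 0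

theorem extVec_form (i : Fin k) (u : Fin 2 → F) :
    modelQ k d (extVec i u) = planeQ F u := by
  simp only [QuadraticMap.weightedSumSquares_apply, Fintype.sum_sum_type, Fintype.sum_prod_type,
    extVec, Sum.elim_inl, Sum.elim_inr, smul_eq_mul, Pi.zero_apply, mul_zero, Finset.sum_const_zero,
    add_zero, Pi.one_apply, one_mul]
  exact Finset.sum_congr rfl fun a _ => by
    rw [Finset.sum_eq_single i (fun b _ hb => by simp [hb]) (by simp)]
    simp

theorem extVec_polar (i : Fin k) (u : Fin 2 → F) (x : (Fin 2 × Fin k) ⊕ Fin r → F) :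
    polar (⇑(modelQ k d)) (extVec i u) x = polar (⇑(planeQ F)) u fun a => x (Sum.inl (a, i)) := by
  simp only [polar_weighted, Fintype.sum_sum_type, Fintype.sum_prod_type,
    extVec, Sum.elim_inl, Sum.elim_inr, Pi.zero_apply, zero_mul, mul_zero, Finset.sum_const_zero,
    add_zero, Pi.one_apply, one_mul]
  exact Finset.sum_congr rfl fun a _ => by
    rw [Finset.sum_eq_single i (fun b _ hb => by simp [hb]) (by simp)]
    simp

theorem inPlane_reflection (h2 : (2 : F) ≠ 0) (i : Fin k) {u : Fin 2 → F} (hu : planeQ F u ≠ 0) :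
    inPlane d h2 i (reflection hu) =
      reflection (Q := modelQ k d) (v := extVec i u) (by rwa [extVec_form]) := by
  apply ext_act
  intro x
  rw [act_reflection, extVec_form, extVec_polar]
  show (sumGL F _ _ (blockGL F k (Pi.mulSingle i
    ((reflection hu : ↥(isometryGroup F ⇑(planeQ F))) : GL (Fin 2) F)), 1)).val *ᵥ x = _
  rw [sumGL_val, fromBlocks_mulVec, blockGL_val]
  funext z
  rcases z with ⟨a, j⟩ | z
  · have e : (blockDiagonal fun l => ((Pi.mulSingle i ((reflection hu :
        ↥(isometryGroup F ⇑(planeQ F))) : GL (Fin 2) F) : Fin k → GL (Fin 2) F) l).val) *ᵥ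
        (x ∘ Sum.inl) = fun p => (((Pi.mulSingle i ((reflection hu :
        ↥(isometryGroup F ⇑(planeQ F))) : GL (Fin 2) F) : Fin k → GL (Fin 2) F) p.2).val *ᵥ
          fun b => x (Sum.inl (b, p.2))) p.1 := by
      funext p
      obtain ⟨c, l⟩ := p
      simp [mulVec, dotProduct, Fintype.sum_prod_type, blockDiagonal_apply]
    simp only [zero_mulVec, add_zero, Sum.elim_inl, Pi.sub_apply, Pi.smul_apply, smul_eq_mul,
      extVec, e]
    by_cases h : j = i
    · subst h
      rw [Pi.mulSingle_eq_same, if_pos rfl]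
      exact (congrFun (act_reflection (Q := planeQ F) hu (fun b => x (Sum.inl (b, j)))) a).trans
        (by simp)
    · rw [Pi.mulSingle_eq_of_ne h, if_neg h]
      simp
  · simp [extVec, Units.val_one]

variable (D : Subgroup (GL (Fin 2) F)) (R : Subgroup (Equiv.Perm (Fin k)))

/-- `(Dᵏ ⋊ R) × {±1}ʳ`. -/
abbrev OGroup (r : ℕ) := WGroup D R × (Fin r → Subgroup.zpowers (-1 : Fˣ))

theorem pm_sq (c : Subgroup.zpowers (-1 : Fˣ)) : ((c : Fˣ) : F) * ((c : Fˣ) : F) = 1 := by
  obtain ⟨n, hn⟩ := Subgroup.mem_zpowers_iff.1 c.2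
  rw [← hn, ← Units.val_mul, ← mul_zpow, neg_one_mul, neg_neg, _root_.one_zpow, Units.val_one]

theorem wreathGL_gram (hD : ∀ g ∈ D, (g : Matrix (Fin 2) (Fin 2) F)ᵀ * (g : Matrix _ _ F) = 1)
    (x : WGroup D R) :
    (wreathGL D R x).valᵀ * (wreathGL D R x).val = 1 := by
  rw [← SemidirectProduct.inl_left_mul_inr_right x, map_mul, wreathGL, SemidirectProduct.lift_inl,
    SemidirectProduct.lift_inr, Units.val_mul, transpose_mul, mul_assoc,
    ← mul_assoc ((((blockGL F k).comp (D.subtype.compLeft (Fin k))) x.left).val)ᵀ]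
  rw [show (((blockGL F k).comp (D.subtype.compLeft (Fin k))) x.left).val =
      (blockGL F k (fun i => (x.left i : GL (Fin 2) F))).val from rfl,
    blockGL_gram _ fun i => hD _ (x.left i).2, one_mul, MonoidHom.comp_apply, permGL_val, perm_gram]

/-- The embedding in the isometry group. -/
noncomputable def toModel
    (hD : ∀ g ∈ D, (g : Matrix (Fin 2) (Fin 2) F)ᵀ * (g : Matrix _ _ F) = 1) :
    OGroup D R r →* ↥(isometryGroup F ⇑(modelQ k d)) :=
  ((sumGL F (Fin 2 × Fin k) (Fin r)).comp ((wreathGL D R).prodMap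
    ((diagFin F r).comp ((Subgroup.zpowers (-1 : Fˣ)).subtype.compLeft (Fin r))))).codRestrict _
    fun x => by
      refine sumGL_mem d _ _ (wreathGL_gram D R hD x.1) ?_
      show (diagFin F r fun j => (x.2 j : Fˣ)).valᵀ * _ * (diagFin F r fun j => (x.2 j : Fˣ)).val = _
      rw [diagFin_val, diagonal_transpose, diagonal_mul_diagonal, diagonal_mul_diagonal]
      congr 1
      funext j
      show ((x.2 j : Fˣ) : F) * d j * ((x.2 j : Fˣ) : F) = d j
      rw [mul_comm _ (d j), mul_assoc, pm_sq, mul_one]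

theorem toModel_injective
    (hD : ∀ g ∈ D, (g : Matrix (Fin 2) (Fin 2) F)ᵀ * (g : Matrix _ _ F) = 1) :
    Function.Injective (toModel d D R hD) := by
  intro x y h
  have h' := sumGL_injective _ _ (congrArg Subtype.val h)
  refine Prod.ext (wreathGL_injective D R (congrArg Prod.fst h')) (funext fun j => ?_)
  have h2 := congrArg Prod.snd h'
  apply Subtype.ext; apply Units.ext
  exact congrFun (diagonal_injective (congrArg Units.val h2)) j

end Model

end CfsgLib.SylowAbel
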