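import Cfsg.Agent.Lib.SylowAbel.Mono

/-!
Sylow `2`-subgroups of `SL_{2^k}(q)`, `q ≡ 1 (mod 4)`.
-/

set_option autoImplicit false

namespace CfsgLib.SylowAbel

open Matrix

variable {F : Type*} [Field F] [Fintype F]

theorem exists_coeff_group (h4 : Fintype.card F % 4 = 1) :
    ∃ (C : Subgroup Fˣ) (z : C), Nat.card C = 2 ^ (Fintype.card F - 1).factorization 2 ∧
      ((z : Fˣ) : F) * ((z : Fˣ) : F) = -1 := by
  classical
  haveI : Fact (Nat.Prime 2) := ⟨Nat.prime_two⟩
  have hu : Nat.card Fˣ = Fintype.card F - 1 := by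
    rw [Nat.card_units, Nat.card_eq_fintype_card]
  obtain ⟨g, hg⟩ := IsCyclic.exists_monoid_generator (α := Fˣ)
  have ho : orderOf g = Fintype.card F - 1 := by
    rw [orderOf_eq_card_of_forall_mem_powers hg, hu]
  set m := (Fintype.card F - 1) / 4
  have hm : Fintype.card F - 1 = 4 * m := by omega
  have hz4 : orderOf (g ^ m) = 4 := by
    rw [orderOf_pow_of_dvd (by have := Fintype.one_lt_card (α := F); omega) ⟨4, by rw [ho, hm]; ring⟩,
      ho, hm, Nat.mul_div_cancel _ (by have := Fintype.one_lt_card (α := F); omega)]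
  obtain ⟨P, hP⟩ := (IsPGroup.of_card (p := 2) (n := 2) (by rw [Nat.card_zpowers, hz4]; rfl) :
    IsPGroup 2 (Subgroup.zpowers (g ^ m))).exists_le_sylow
  refine ⟨(P : Subgroup Fˣ), ⟨g ^ m, hP (Subgroup.mem_zpowers _)⟩, ?_, ?_⟩
  · rw [Sylow.card_eq_multiplicity, hu]
  · set u : Fˣ := g ^ m
    have h4' : u ^ 4 = 1 := orderOf_dvd_iff_pow_eq_one.1 hz4.dvd
    have h2' : u ^ 2 ≠ 1 := fun h => by
      have := orderOf_dvd_of_pow_eq_one h
      rw [hz4] at this
      norm_num at this
    have hsq : ((u ^ 2 : Fˣ) : F) * ((u ^ 2 : Fˣ) : F) = 1 := by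
      rw [← Units.val_mul, ← pow_add, show 2 + 2 = 4 from rfl, h4', Units.val_one]
    rcases mul_self_eq_one_iff.1 hsq with h | h
    · exact absurd (Units.ext h) h2'
    · rw [← h, pow_two, Units.val_mul]

/-- `SL_{2^k}(q)`. -/
theorem good_SL_one (h4 : Fintype.card F % 4 = 1) {n k : ℕ} (hn : n = 2 ^ k)
    (P : Sylow 2 (SpecialLinearGroup (Fin n) F))
    (x : (P : Subgroup (SpecialLinearGroup (Fin n) F))) : Good 2 x := by
  classical
  haveI : Fact (Nat.Prime 2) := ⟨Nat.prime_two⟩
  haveI : NeZero n := ⟨by rw [hn]; exact pow_ne_zero _ two_ne_zero⟩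
  obtain ⟨C, z, hC, hz⟩ := exists_coeff_group (F := F) h4
  obtain ⟨S, hS⟩ := exists_gens (p := 2) n
  haveI := pretransitive_sylow hn (Subgroup.closure S) hS.card
  set R := Subgroup.closure S
  let f : (monoDet C R).ker →* SpecialLinearGroup (Fin n) F :=
    { toFun := fun y => ⟨(monoGL C R (y : MGroup C R) : Matrix (Fin n) (Fin n) F),
        congrArg Units.val (y.2 : monoDet C R (y : MGroup C R) = 1)⟩
      map_one' := Subtype.ext (by simp)
      map_mul' := fun a b => Subtype.ext (by
        show Units.val (monoGL C R ((a : MGroup C R) * b)) = _ * _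
        rw [map_mul, Units.val_mul]) }
  have hf : Function.Injective f := fun a b h =>
    Subtype.ext (monoGL_injective C R (Units.ext (congrArg Subtype.val h)))
  refine good_sylow_of_hom f hf ?_ (fun y => good_monoDet_ker rfl hS.pow hz y) P x
  have hrange : (monoDet C R).range = C := by
    apply le_antisymm
    · rintro _ ⟨w, rfl⟩
      rw [← SemidirectProduct.inl_left_mul_inr_right w, map_mul, monoDet_inl]
      refine Subgroup.mul_mem _ (∏ i, w.left i).2 ?_
      rcases Int.units_eq_one_or (Equiv.Perm.sign (w.right : Equiv.Perm (Fin n))) with h | h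
      · rw [show monoDet C R (SemidirectProduct.inr w.right) = 1 from Units.ext (by
          rw [monoDet_inr, h]; simp)]
        exact Subgroup.one_mem _
      · rw [show monoDet C R (SemidirectProduct.inr w.right) = ((z * z : C) : Fˣ) from Units.ext (by
          rw [monoDet_inr, h]; simp [hz])]
        exact (z * z).2
    · intro c hc
      refine ⟨SemidirectProduct.inl (Pi.mulSingle 0 ⟨c, hc⟩), ?_⟩
      rw [monoDet_inl, Finset.prod_pi_mulSingle']
      simp
  have h := (monoDet C R).ker.card_mul_index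
  haveI : Nonempty (Fin n) := ⟨0⟩
  rw [Subgroup.index_ker, hrange, SemidirectProduct.card, Nat.card_fun, hC, hS.card, Nat.card_fin,
    ← pow_mul, ← pow_add] at h
  have h2 := congrArg (fun t => t.factorization 2)
    (CfsgLib.Linear.card_GL_eq_mul_card_SL (n := Fin n) (F := F))
  rw [Nat.factorization_mul (by have := Fintype.one_lt_card (α := F); omega) Nat.card_pos.ne',
    Finsupp.add_apply, factorization_GL_one h4, mul_comm n] at h2
  refine Nat.eq_of_mul_eq_mul_right (Nat.two_pow_pos ((Fintype.card F - 1).factorization 2)) ?_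
  rw [h, ← pow_add]
  congr 1
  omega

end CfsgLib.SylowAbel
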