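import Cfsg.Agent.Lib.SylowAbel.GLWreath

/-!
Sylow `2`-subgroups of `SL_n(q)`, `q ≡ 3 (mod 4)`.
-/

set_option autoImplicit false

namespace CfsgLib.SylowAbel

open Matrix

variable {F : Type*} [Field F] {m : ℕ}

/-- Reindexed matrices. -/
def slReindex {ι κ : Type*} [Fintype ι] [DecidableEq ι] [Fintype κ] [DecidableEq κ] (e : ι ≃ κ) :
    SpecialLinearGroup ι F →* SpecialLinearGroup κ F where
  toFun g := ⟨Matrix.reindexAlgEquiv F F e g.1, by
    rw [Matrix.det_reindexAlgEquiv]; exact g.2⟩
  map_one' := Subtype.ext (map_one _)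
  map_mul' g h := Subtype.ext (map_mul _ g.1 h.1)

theorem slReindex_injective {ι κ : Type*} [Fintype ι] [DecidableEq ι] [Fintype κ] [DecidableEq κ]
    (e : ι ≃ κ) : Function.Injective (slReindex (F := F) e) := fun _ _ h =>
  Subtype.ext ((Matrix.reindexAlgEquiv F F e).injective (congrArg Subtype.val h))

/-- Appending the inverse determinant. -/
noncomputable def addDet {ι : Type*} [Fintype ι] [DecidableEq ι] :
    GL ι F →* SpecialLinearGroup (ι ⊕ Fin 1) F where
  toFun g := ⟨fromBlocks (g : Matrix ι ι F) 0 0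
      (Matrix.diagonal fun _ : Fin 1 => (((GeneralLinearGroup.det g)⁻¹ : Fˣ) : F)), by
    rw [Matrix.det_fromBlocks_zero₂₁, Matrix.det_diagonal, Fin.prod_univ_one]
    exact (GeneralLinearGroup.det g).mul_inv⟩
  map_one' := by
    apply Subtype.ext
    show fromBlocks _ _ _ _ = (1 : Matrix (ι ⊕ Fin 1) (ι ⊕ Fin 1) F)
    simp [← fromBlocks_one]
  map_mul' g h := by
    apply Subtype.ext
    show fromBlocks _ _ _ _ = fromBlocks _ _ _ _ * fromBlocks _ _ _ _
    simp [fromBlocks_multiply, map_mul, mul_comm]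

theorem addDet_injective {ι : Type*} [Fintype ι] [DecidableEq ι] :
    Function.Injective (addDet (F := F) (ι := ι)) := fun _ _ h =>
  Units.ext (fromBlocks_inj.1 (congrArg Subtype.val h)).1

variable [Fintype F]

/-- `SL_{2m+1}(q)`. -/
theorem good_SL_odd_three (h4 : Fintype.card F % 4 = 3) (hm : 1 ≤ m)
    (P : Sylow 2 (SpecialLinearGroup (Fin (2 * m + 1)) F))
    (x : (P : Subgroup (SpecialLinearGroup (Fin (2 * m + 1)) F))) : Good 2 x := by
  classical
  haveI : Fact (Nat.Prime 2) := ⟨Nat.prime_two⟩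
  obtain ⟨D, R, hcard, hgood, -, -⟩ := exists_gl_sylow (F := F) h4 hm
  let e : (Fin 2 × Fin m) ⊕ Fin 1 ≃ Fin (2 * m + 1) :=
    (Equiv.sumCongr finProdFinEquiv (Equiv.refl (Fin 1))).trans finSumFinEquiv
  refine good_sylow_of_hom ((slReindex e).comp (addDet.comp (wreathGL D R)))
    ((slReindex_injective e).comp (addDet_injective.comp (wreathGL_injective D R))) ?_ hgood P x
  have h := factorization_GL_eq_SL (F := F) h4 (n := 2 * m + 1) (by omega)
  rw [factorization_GL_succ h4,
    factorization_pow_sub_one_odd (F := F) h4 (j := 2 * m + 1) ⟨m, rfl⟩] at h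
  rw [hcard]
  congr 1
  omega

/-- `SL_{2m}(q)`. -/
theorem good_SL_even_three (h4 : Fintype.card F % 4 = 3) (hm : 1 ≤ m)
    (P : Sylow 2 (SpecialLinearGroup (Fin (2 * m)) F))
    (x : (P : Subgroup (SpecialLinearGroup (Fin (2 * m)) F))) : Good 2 x := by
  classical
  haveI : Fact (Nat.Prime 2) := ⟨Nat.prime_two⟩
  obtain ⟨D, R, hcard, -, hidx, hgood⟩ := exists_gl_sylow (F := F) h4 hm
  let f : (wreathDet D R).ker →* SpecialLinearGroup (Fin 2 × Fin m) F :=
    { toFun := fun y => ⟨(wreathGL D R (y : WGroup D R) : Matrix (Fin 2 × Fin m) (Fin 2 × Fin m) F),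
        congrArg Units.val (y.2 : wreathDet D R (y : WGroup D R) = 1)⟩
      map_one' := Subtype.ext (by simp)
      map_mul' := fun a b => Subtype.ext (by
        show Units.val (wreathGL D R ((a : WGroup D R) * b)) = _ * _
        rw [map_mul, Units.val_mul]) }
  have hf : Function.Injective f := fun a b h =>
    Subtype.ext (wreathGL_injective D R (Units.ext (congrArg Subtype.val h)))
  refine good_sylow_of_hom ((slReindex finProdFinEquiv).comp f)
    ((slReindex_injective _).comp hf) ?_ hgood P x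
  have h := (wreathDet D R).ker.card_mul_index
  rw [hidx, hcard, factorization_GL_eq_SL (F := F) h4 (n := 2 * m) (by omega), pow_add, pow_one] at h
  omega

end CfsgLib.SylowAbel
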