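import Cfsg.Agent.Lib.SylowAbel.Good
import Mathlib.GroupTheory.Perm.Fin
import Mathlib.GroupTheory.Perm.Sign
import Mathlib.NumberTheory.Padics.PadicVal.Basic
import Mathlib.GroupTheory.SpecificGroups.Alternating
import Mathlib.GroupTheory.NoncommPiCoprod

/-!
A Sylow subgroup of the symmetric group generated by elements of order dividing `p`, the odd ones
commuting.
-/

set_option autoImplicit false

namespace CfsgLib.SylowAbel

open Equiv

variable {p : ℕ} [hp : Fact p.Prime]

/-- Generators of a Sylow subgroup. -/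
structure Gens (p : ℕ) {α : Type*} [Fintype α] [DecidableEq α] (S : Set (Perm α)) (v : ℕ) : Prop where
  pow : ∀ s ∈ S, s ^ p = 1
  card : Nat.card (Subgroup.closure S) = p ^ v
  comm : ∀ s ∈ S, ∀ t ∈ S, Perm.sign s ≠ 1 → Perm.sign t ≠ 1 → s * t = t * s

/-- Transport along an injective sign-preserving map. -/
theorem Gens.map {α β : Type*} [Fintype α] [DecidableEq α] [Fintype β] [DecidableEq β]
    {S : Set (Perm α)} {v : ℕ} (h : Gens p S v) (f : Perm α →* Perm β) (hf : Function.Injective f)
    (hsign : ∀ s, Perm.sign (f s) = Perm.sign s) : Gens p (f '' S) v := by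
  refine ⟨?_, ?_, ?_⟩
  · rintro _ ⟨s, hs, rfl⟩
    rw [← map_pow, h.pow s hs, map_one]
  · rw [← MonoidHom.map_closure, Subgroup.card_map_of_injective hf, h.card]
  · rintro _ ⟨s, hs, rfl⟩ _ ⟨t, ht, rfl⟩ h1 h2
    rw [hsign] at h1 h2
    rw [← map_mul, h.comm s hs t ht h1 h2, map_mul]

omit hp in
theorem odd_eq_two {α : Type*} [Fintype α] [DecidableEq α] {s : Perm α} (hpp : p.Prime)
    (h : s ^ p = 1) (h1 : Perm.sign s ≠ 1) : p = 2 := by
  rcases hpp.eq_two_or_odd' with h2 | hodd
  · exact h2
  have h2 : Perm.sign s = -1 := (Int.units_eq_one_or _).resolve_left h1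
  have := congrArg Perm.sign h
  rw [map_pow, h2, hodd.neg_one_pow, map_one] at this
  exact absurd this (by decide)

variable {m : ℕ}

/-- The permutations inside the fibres. -/
def fibrePerm (m p : ℕ) : (Fin m → Perm (Fin p)) →* Perm (Fin m × Fin p) where
  toFun f := Equiv.prodCongrRight f
  map_one' := by ext ⟨a, b⟩ <;> rfl
  map_mul' f g := by ext ⟨a, b⟩ <;> rfl

/-- Permuting the fibres. -/
def topPerm (m p : ℕ) : Perm (Fin m) →* Perm (Fin m × Fin p) where
  toFun σ := Equiv.prodCongrLeft fun _ => σ
  map_one' := by ext ⟨a, b⟩ <;> rfl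
  map_mul' f g := by ext ⟨a, b⟩ <;> rfl

theorem fibrePerm_injective (m p : ℕ) : Function.Injective (fibrePerm m p) := fun f g h =>
  funext fun a => Equiv.ext fun b => congrArg Prod.snd (Equiv.ext_iff.1 h (a, b))

theorem topPerm_conj (σ : Perm (Fin m)) (f : Fin m → Perm (Fin p)) :
    topPerm m p σ * fibrePerm m p f * (topPerm m p σ)⁻¹ = fibrePerm m p (f ∘ σ.symm) := by
  rw [mul_inv_eq_iff_eq_mul]
  ext ⟨a, b⟩ <;> simp [topPerm, fibrePerm, Equiv.prodCongrLeft, Equiv.prodCongrRight]

/-- One step of the wreath construction. -/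
theorem Gens.wreath {S : Set (Perm (Fin m))} {v : ℕ} (h : Gens p S v) :
    ∃ T : Set (Perm (Fin m × Fin p)), Gens p T (m + v) := by
  classical
  set ρ : Perm (Fin p) := finRotate p with hρ
  have hord : orderOf ρ = p := by
    obtain ⟨k, hk⟩ : ∃ k, p = k + 2 := ⟨p - 2, by have := hp.out.two_le; omega⟩
    subst hk
    rw [hρ, (isCycle_finRotate (n := k)).orderOf, support_finRotate, Finset.card_univ,
      Fintype.card_fin]
  set R := Subgroup.zpowers ρ with hR
  have hRcard : Nat.card R = p := by rw [hR, Nat.card_zpowers, hord]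
  let φ : Subgroup.closure S →* MulAut (Fin m → R) :=
    { toFun := fun σ =>
        { toFun := fun f i => f ((σ : Perm (Fin m))⁻¹ i)
          invFun := fun f i => f ((σ : Perm (Fin m)) i)
          left_inv := fun f => funext fun i => congrArg f ((σ : Perm (Fin m)).symm_apply_apply i)
          right_inv := fun f => funext fun i => congrArg f ((σ : Perm (Fin m)).apply_symm_apply i)
          map_mul' := fun f g => rfl }
      map_one' := rfl
      map_mul' := fun σ τ => rfl }
  let base : (Fin m → R) →* Perm (Fin m × Fin p) := (fibrePerm m p).comp (R.subtype.compLeft (Fin m))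
  let top : Subgroup.closure S →* Perm (Fin m × Fin p) :=
    (topPerm m p).comp (Subgroup.closure S).subtype
  let Ψ : (Fin m → R) ⋊[φ] Subgroup.closure S →* Perm (Fin m × Fin p) :=
    SemidirectProduct.lift base top fun σ => by
      ext1 f
      exact (topPerm_conj (σ : Perm (Fin m)) (fun i => (f i : Perm (Fin p)))).symm
  have hΨ : Function.Injective Ψ := by
    rw [injective_iff_map_eq_one]
    rintro ⟨f, σ⟩ hx
    change fibrePerm m p (fun i => (f i : Perm (Fin p))) * topPerm m p (σ : Perm (Fin m)) = 1 at hx
    have hσ : σ = 1 := Subtype.ext (Equiv.ext fun a => by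
      have hp0 : 0 < p := hp.out.pos
      exact congrArg Prod.fst (Equiv.ext_iff.1 hx (a, ⟨0, hp0⟩)))
    subst hσ
    rw [OneMemClass.coe_one, map_one, mul_one] at hx
    have h0 := fibrePerm_injective m p (hx.trans (map_one _).symm)
    have hf : f = 1 := funext fun i => Subtype.ext (congrFun h0 i)
    subst hf; rfl
  set T : Set (Perm (Fin m × Fin p)) :=
    Set.range (fun i : Fin m => fibrePerm m p (Pi.mulSingle i ρ)) ∪ topPerm m p '' S with hT
  have hrange : Subgroup.closure T = Ψ.range := by
    apply le_antisymm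
    · rw [Subgroup.closure_le]
      rintro _ (⟨i, rfl⟩ | ⟨s, hs, rfl⟩)
      · refine ⟨SemidirectProduct.inl (Pi.mulSingle i ⟨ρ, Subgroup.mem_zpowers ρ⟩), ?_⟩
        rw [SemidirectProduct.lift_inl]
        show fibrePerm m p _ = _
        congr 1
        funext j
        show ((Pi.mulSingle i (⟨ρ, Subgroup.mem_zpowers ρ⟩ : R) : Fin m → R) j : Perm (Fin p)) = _
        by_cases hj : j = i
        · subst hj; simp
        · simp [Pi.mulSingle_eq_of_ne hj]
      · exact ⟨SemidirectProduct.inr ⟨s, Subgroup.subset_closure hs⟩, SemidirectProduct.lift_inr _ _ _ _⟩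
    · rintro _ ⟨x, rfl⟩
      rw [← SemidirectProduct.inl_left_mul_inr_right x, map_mul, SemidirectProduct.lift_inl,
        SemidirectProduct.lift_inr]
      refine Subgroup.mul_mem _ ?_ ?_
      · have : x.left ∈ (Subgroup.closure T).comap base := by
          refine Subgroup.pi_mem_of_mulSingle_mem x.left fun i => ?_
          obtain ⟨z, hz⟩ := Subgroup.mem_zpowers_iff.1 (x.left i).2
          rw [show x.left i = (⟨ρ, Subgroup.mem_zpowers ρ⟩ : R) ^ z from
            Subtype.ext (by simpa using hz.symm), Pi.mulSingle_zpow, Subgroup.mem_comap, map_zpow]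
          refine Subgroup.zpow_mem _ (Subgroup.subset_closure (k := T) (Or.inl ⟨i, ?_⟩)) _
          show fibrePerm m p _ = fibrePerm m p _
          congr 1
          funext j
          show _ = ((Pi.mulSingle i (⟨ρ, Subgroup.mem_zpowers ρ⟩ : R) : Fin m → R) j : Perm (Fin p))
          by_cases hj : j = i
          · subst hj; simp
          · simp [Pi.mulSingle_eq_of_ne hj]
        exact this
      · have h2 : x.right.1 ∈ (Subgroup.closure T).comap (topPerm m p) :=
          (Subgroup.closure_le _).2 (fun s hs => Subgroup.mem_comap.2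
            (Subgroup.subset_closure (Or.inr ⟨s, hs, rfl⟩) : topPerm m p s ∈ Subgroup.closure T))
            x.right.2
        exact h2
  have htop : ∀ s ∈ S, Perm.sign (topPerm m p s) = 1 := by
    intro s hs
    have h1 : Perm.sign (topPerm m p s) = Perm.sign s ^ p := by
      show Perm.sign (Equiv.prodCongrLeft fun _ : Fin p => s) = _
      rw [Perm.sign_prodCongrLeft, Finset.prod_const, Finset.card_univ, Fintype.card_fin]
    rw [h1, ← map_pow, h.pow s hs, map_one]
  refine ⟨T, ?_, ?_, ?_⟩
  · rintro _ (⟨i, rfl⟩ | ⟨s, hs, rfl⟩)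
    · show fibrePerm m p (Pi.mulSingle i ρ) ^ p = 1
      rw [← map_pow, ← Pi.mulSingle_pow]
      rw [orderOf_dvd_iff_pow_eq_one.1 hord.dvd, Pi.mulSingle_one, map_one]
    · rw [← map_pow, h.pow s hs, map_one]
  · rw [hrange, ← Nat.card_congr (MonoidHom.ofInjective hΨ).toEquiv, SemidirectProduct.card,
      Nat.card_fun, hRcard, h.card, Nat.card_fin, pow_add]
  · rintro _ (⟨i, rfl⟩ | ⟨s, hs, rfl⟩) _ (⟨j, rfl⟩ | ⟨t, ht, rfl⟩) h1 h2
    · show fibrePerm m p _ * fibrePerm m p _ = fibrePerm m p _ * fibrePerm m p _
      rw [← map_mul, ← map_mul]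
      congr 1
      by_cases hij : i = j
      · subst hij; rfl
      · exact (Pi.mulSingle_commute (f := fun _ : Fin m => Perm (Fin p)) hij ρ ρ).eq
    · exact absurd (htop t ht) h2
    · exact absurd (htop s hs) h1
    · exact absurd (htop s hs) h1

/-- **Generators of a Sylow subgroup of the symmetric group.** -/
theorem exists_gens : ∀ n : ℕ, ∃ S : Set (Perm (Fin n)), Gens p S (n.factorial.factorization p) := by
  intro n
  induction n using Nat.strong_induction_on with
  | _ n ih =>
  by_cases hn : n < p
  · refine ⟨∅, fun s hs => hs.elim, ?_, fun s hs => hs.elim⟩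
    rw [Subgroup.closure_empty, Subgroup.card_bot, Nat.factorization_eq_zero_of_not_dvd
      fun h => absurd ((Nat.Prime.dvd_factorial hp.out).1 h) (by omega), pow_zero]
  obtain ⟨S, hS⟩ := ih (n / p) (Nat.div_lt_self (by have := hp.out.pos; omega) hp.out.one_lt)
  obtain ⟨T, hT⟩ := hS.wreath
  let e : (Fin (n / p) × Fin p) ⊕ Fin (n % p) ≃ Fin n :=
    ((Equiv.sumCongr finProdFinEquiv (Equiv.refl _)).trans finSumFinEquiv).trans
      (finCongr (by rw [mul_comm]; exact Nat.div_add_mod n p))
  let f : Perm (Fin (n / p) × Fin p) →* Perm (Fin n) :=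
    e.permCongrHom.toMonoidHom.comp
      ((Equiv.Perm.sumCongrHom _ (Fin (n % p))).comp (MonoidHom.inl _ _))
  have hf : Function.Injective f := fun σ τ h => Equiv.ext fun a => by
    have h1 := Equiv.ext_iff.1 (e.permCongr.injective h) (Sum.inl a)
    simpa using h1
  have hsign : ∀ σ, Perm.sign (f σ) = Perm.sign σ := fun σ => by
    show Perm.sign (e.permCongr (Equiv.sumCongr σ 1)) = _
    rw [Perm.sign_permCongr, Perm.sign_sumCongr, map_one, mul_one]
  refine ⟨f '' T, ?_⟩
  have hv : n.factorial.factorization p = n / p + (n / p).factorial.factorization p := by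
    simp only [Nat.factorization_def _ hp.out]
    rw [← padicValNat_mul_div_factorial n, padicValNat_factorial_mul, add_comm]
  rw [hv]
  exact hT.map f hf hsign

/-- Sylow subgroups of symmetric groups. -/
theorem good_perm (n : ℕ) (Q : Sylow p (Perm (Fin n))) (x : (Q : Subgroup (Perm (Fin n)))) :
    Good p x := by
  obtain ⟨S, hS⟩ := exists_gens (p := p) n
  refine good_sylow (P := Subgroup.closure S) (by rw [hS.card, Nat.card_perm, Nat.card_fin]) ?_ Q x
  refine good_of_gens (Subgroup.closure_closure_coe_preimage (k := S)) fun s hs => ?_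
  exact good_of_pow_eq_one (Subtype.ext (by simpa using hS.pow _ hs))

/-- Sylow subgroups of alternating groups. -/
theorem good_alternating (n : ℕ) (Q : Sylow p (alternatingGroup (Fin n)))
    (x : (Q : Subgroup (alternatingGroup (Fin n)))) : Good p x := by
  obtain ⟨S, hS⟩ := exists_gens (p := p) n
  set P := Subgroup.closure S with hP
  have hPcard : Nat.card P = p ^ n.factorial.factorization p := hS.card
  rcases Nat.lt_or_ge n 2 with hn | hn
  · haveI : Subsingleton (Perm (Fin n)) := by
      haveI : Subsingleton (Fin n) := Fin.subsingleton_iff_le_one.2 (by omega)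
      infer_instance
    exact good_of_pow_eq_one (Subsingleton.elim _ _)
  haveI : Nontrivial (Fin n) := Fin.nontrivial_iff_two_le.2 hn
  have hA : 2 * Nat.card (alternatingGroup (Fin n)) = n.factorial := by
    rw [two_mul_nat_card_alternatingGroup, Nat.card_perm, Nat.card_fin]
  let χ : P →* ℤˣ := Perm.sign.comp P.subtype
  have hgen : Subgroup.closure ((Subtype.val : P → Perm (Fin n)) ⁻¹' S) = ⊤ :=
    Subgroup.closure_closure_coe_preimage (k := S)
  let f : χ.ker →* alternatingGroup (Fin n) :=
    { toFun := fun y => ⟨(y : P), y.2⟩, map_one' := rfl, map_mul' := fun a b => rfl }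
  have hf : Function.Injective f := fun a b h => by
    apply Subtype.ext; apply Subtype.ext; exact congrArg (fun z : alternatingGroup (Fin n) => (z : Perm (Fin n))) h
  have hA0 : Nat.card (alternatingGroup (Fin n)) ≠ 0 := Nat.card_pos.ne'
  by_cases hp2 : p = 2
  · subst hp2
    have hinv : ∀ s ∈ (Subtype.val : P → Perm (Fin n)) ⁻¹' S, s * s = 1 := fun s hs =>
      Subtype.ext (by rw [Subgroup.coe_mul, ← pow_two, hS.pow _ hs]; rfl)
    refine good_sylow_of_hom f hf ?_ (fun y => good_ker hgen hinv (fun s hs t ht h1 h2 =>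
      Subtype.ext (hS.comm _ hs _ ht h1 h2)) y) Q x
    have hidx : χ.ker.index = 2 := by
      rw [Subgroup.index_ker]
      by_cases hall : ∀ s ∈ S, Perm.sign s = 1
      · exfalso
        have hle : P ≤ alternatingGroup (Fin n) := (Subgroup.closure_le _).2 fun s hs => hall s hs
        have h1 := Subgroup.card_dvd_of_le hle
        rw [hPcard] at h1
        have h2 := (Nat.Prime.pow_dvd_iff_le_factorization Nat.prime_two hA0).1 h1
        rw [← hA, Nat.factorization_mul two_ne_zero hA0, Nat.prime_two.factorization] at h2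
        simp only [Finsupp.add_apply, Finsupp.single_eq_same] at h2
        omega
      · push Not at hall
        obtain ⟨s, hs, hs1⟩ := hall
        have htop : χ.range = ⊤ := by
          rw [eq_top_iff]
          intro u _
          rcases Int.units_eq_one_or u with rfl | rfl
          · exact Subgroup.one_mem _
          · exact ⟨⟨s, Subgroup.subset_closure hs⟩, (Int.units_eq_one_or _).resolve_left hs1⟩
        rw [htop, Subgroup.card_top, Nat.card_eq_fintype_card]
        rfl
    have h1 := χ.ker.card_mul_index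
    rw [hidx, hPcard, ← hA, Nat.factorization_mul two_ne_zero hA0,
      Nat.prime_two.factorization] at h1
    simp only [Finsupp.add_apply, Finsupp.single_eq_same, pow_add, pow_one] at h1
    omega
  · have hker : χ.ker = ⊤ := by
      rw [eq_top_iff, ← hgen, Subgroup.closure_le]
      intro s hs
      by_contra h1
      exact hp2 (odd_eq_two (s := (s : Perm (Fin n))) hp.out (hS.pow _ hs)
        fun h => h1 (by simpa [χ, MonoidHom.mem_ker] using h))
    refine good_sylow_of_hom f hf ?_ ?_ Q x
    · rw [hker, Subgroup.card_top, hPcard, ← hA, Nat.factorization_mul two_ne_zero hA0,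
        Nat.prime_two.factorization]
      simp [Finsupp.single_eq_of_ne hp2]
    · exact good_of_equiv (Subgroup.topEquiv.symm.trans (MulEquiv.subgroupCongr hker.symm))
        (good_of_gens hgen fun s hs => good_of_pow_eq_one (Subtype.ext (by simpa using hS.pow _ hs)))

end CfsgLib.SylowAbel
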